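import Cfsg.Agent.Perm.Basic
import Mathlib.Algebra.Order.BigOperators.Ring.Finset
import Mathlib.LinearAlgebra.Dimension.Constructions
import Mathlib.LinearAlgebra.FiniteDimensional.Basic
import Mathlib.GroupTheory.GroupAction.Pointwise

/-!
Two facts used for subgroups of index `p`: the Cauchy–Schwarz bound for orbits on a product, and
Fisher's inequality for the blocks of a triply transitive group.
-/

namespace Cfsg.Agent.PermLib

open MulAction
open scoped Pointwise

theorem burnside_prod {G γ δ : Type*} [Group G] [Fintype G] [MulAction G γ] [MulAction G δ]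
    [Fintype γ] [Fintype δ] [DecidableEq γ] [DecidableEq δ] :
    Nat.card (orbitRel.Quotient G (γ × δ)) * Fintype.card G =
      ∑ g : G, Fintype.card (fixedBy γ g) * Fintype.card (fixedBy δ g) := by
  classical
  rw [Nat.card_eq_fintype_card, ← sum_card_fixedBy_eq_card_orbits_mul_card_group G (γ × δ)]
  refine Finset.sum_congr rfl fun g _ => ?_
  rw [← Fintype.card_prod]
  exact Fintype.card_congr
    { toFun := fun z => (⟨z.1.1, (Prod.ext_iff.1 z.2).1⟩, ⟨z.1.2, (Prod.ext_iff.1 z.2).2⟩)
      invFun := fun z => ⟨(z.1.1, z.2.1), Prod.ext z.1.2 z.2.2⟩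
      left_inv := fun _ => rfl
      right_inv := fun _ => rfl }

/-- The Cauchy–Schwarz inequality for orbit numbers. -/
theorem card_orbits_prod_sq_le {G α β : Type*} [Group G] [Finite G] [MulAction G α]
    [MulAction G β] [Finite α] [Finite β] :
    Nat.card (orbitRel.Quotient G (α × β)) ^ 2 ≤
      Nat.card (orbitRel.Quotient G (α × α)) * Nat.card (orbitRel.Quotient G (β × β)) := by
  classical
  haveI : Fintype G := Fintype.ofFinite G
  haveI : Fintype α := Fintype.ofFinite α
  haveI : Fintype β := Fintype.ofFinite β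
  have h := Finset.sum_mul_sq_le_sq_mul_sq Finset.univ
    (fun g : G => Fintype.card (fixedBy α g)) (fun g : G => Fintype.card (fixedBy β g))
  simp only [pow_two] at h ⊢
  rw [← burnside_prod (γ := α) (δ := β), ← burnside_prod (γ := α) (δ := α),
    ← burnside_prod (γ := β) (δ := β)] at h
  refine Nat.le_of_mul_le_mul_right ?_
    (Nat.mul_pos (Fintype.card_pos (α := G)) (Fintype.card_pos (α := G)))
  calc _ = _ := by ring
    _ ≤ _ := h
    _ = _ := by ring

/-- A triply transitive group has no orbit on `k`-subsets with at most as many sets as points,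
for `2 ≤ k ≤ n - 2`. -/
theorem card_lt_two_or_of_three_pretransitive {G α : Type*} [Group G] [MulAction G α] [Fintype α]
    [DecidableEq α] (h3 : IsMultiplyPretransitive G α 3) (B : Finset α)
    (𝔅 : Finset (Finset α)) (h𝔅 : ∀ C, C ∈ 𝔅 ↔ C ∈ orbit G B)
    (hb : 𝔅.card ≤ Fintype.card α) : B.card < 2 ∨ Fintype.card α < B.card + 2 := by
  classical
  by_contra hcon
  push Not at hcon
  obtain ⟨hk2, hkn⟩ := hcon
  haveI : IsMultiplyPretransitive G α 2 :=
    isMultiplyPretransitive_of_le (n := 3) (by omega) (by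
      rw [Nat.card_eq_fintype_card]; exact_mod_cast (show 3 ≤ Fintype.card α by omega))
  haveI : IsPretransitive G α := isPretransitive_of_is_two_pretransitive
  have hinv : ∀ (g : G) C, g • C ∈ 𝔅 ↔ C ∈ 𝔅 := by
    intro g C
    rw [h𝔅, h𝔅, mem_orbit_symm, mem_orbit_symm (a₂ := B)]
    rw [show orbit G (g • C) = orbit G C from orbit_smul g C]
  have hcardC : ∀ C ∈ 𝔅, C.card = B.card := by
    intro C hC
    obtain ⟨g, rfl⟩ := (h𝔅 C).1 hC
    exact Finset.card_smul_finset g B
  let cnt : Finset α → ℕ := fun s => (𝔅.filter fun C => s ⊆ C).card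
  have hcnt : ∀ (g : G) s, cnt (g • s) = cnt s := by
    intro g s
    refine (Finset.card_bij' (fun C _ => g • C) (fun C _ => g⁻¹ • C) ?_ ?_ ?_ ?_).symm
    · intro C hC
      simp only [Finset.mem_filter] at hC ⊢
      exact ⟨(hinv g C).2 hC.1, Finset.smul_finset_subset_smul_finset hC.2⟩
    · intro C hC
      simp only [Finset.mem_filter] at hC ⊢
      refine ⟨(hinv g⁻¹ C).2 hC.1, ?_⟩
      have := Finset.smul_finset_subset_smul_finset (a := g⁻¹) hC.2
      rwa [inv_smul_smul] at this
    · exact fun C _ => inv_smul_smul g C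
    · exact fun C _ => smul_inv_smul g C
  obtain ⟨a, ha⟩ : B.Nonempty := Finset.card_pos.1 (by omega)
  -- few blocks through a point
  have hr : cnt {a} ≤ B.card := by
    have hsum : ∑ u : α, cnt {u} = ∑ C ∈ 𝔅, C.card := by
      simp only [cnt, Finset.singleton_subset_iff, Finset.card_filter]
      rw [Finset.sum_comm]
      refine Finset.sum_congr rfl fun C _ => ?_
      rw [← Finset.card_filter, Finset.filter_univ_mem]
    have hc : ∀ u : α, cnt {u} = cnt {a} := by
      intro u
      obtain ⟨g, rfl⟩ := exists_smul_eq G a u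
      rw [← hcnt g {a}, Finset.smul_finset_singleton]
    rw [Finset.sum_congr rfl fun u _ => hc u, Finset.sum_congr rfl hcardC, Finset.sum_const,
      Finset.sum_const, smul_eq_mul, smul_eq_mul, Finset.card_univ] at hsum
    refine Nat.le_of_mul_le_mul_left (hsum.trans_le ?_) (show 0 < Fintype.card α by omega)
    exact Nat.mul_le_mul_right _ hb
  -- pairs and triples through `a`
  let X := {x : α // x ≠ a}
  have hX : Fintype.card X = Fintype.card α - 1 := by simp [X, Fintype.card_subtype_compl]
  obtain ⟨b, hb', hba⟩ := Finset.exists_mem_ne hk2 a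
  obtain ⟨c, -, hcB⟩ := Finset.exists_mem_notMem_of_card_lt_card
    (show B.card < (Finset.univ : Finset α).card by rw [Finset.card_univ]; omega)
  have hca : c ≠ a := fun e => hcB (e ▸ ha)
  have hbc : b ≠ c := fun e => hcB (e ▸ hb')
  have hpair : ∀ x : X, cnt {a, x.1} = cnt {a, b} := by
    intro x
    obtain ⟨g, hga, hgx⟩ := is_two_pretransitive_iff.1 ‹_› hba.symm x.2.symm
    rw [← hcnt g {a, b}, Finset.smul_finset_insert, Finset.smul_finset_singleton, hga, hgx]
  have htriple : ∀ x y : X, x ≠ y → cnt {a, x.1, y.1} = cnt {a, b, c} := by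
    intro x y hxy
    obtain ⟨g, hga, hgx, hgy⟩ := three_pretransitive_iff.1 h3 a b c a x y hba.symm hca.symm hbc
      x.2.symm y.2.symm (fun e => hxy (Subtype.ext e))
    rw [← hcnt g {a, b, c}, Finset.smul_finset_insert, Finset.smul_finset_insert,
      Finset.smul_finset_singleton, hga, hgx, hgy]
  have hlt : cnt {a, b, c} < cnt {a, b} := by
    refine Finset.card_lt_card ?_
    rw [Finset.ssubset_iff_of_subset ?_]
    · refine ⟨B, Finset.mem_filter.2 ⟨(h𝔅 B).2 (mem_orbit_self B), ?_⟩, fun h => hcB ?_⟩
      · simp [Finset.insert_subset_iff, ha, hb']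
      · exact (Finset.mem_filter.1 h).2 (by simp)
    · refine Finset.monotone_filter_right _ fun C _ h => ?_
      exact Finset.Subset.trans (by intro z hz; simp only [Finset.mem_insert,
        Finset.mem_singleton] at hz ⊢; tauto) h
  -- Fisher's inequality
  let 𝔇 := 𝔅.filter fun C => {a} ⊆ C
  let T : (X → ℚ) →ₗ[ℚ] (𝔇 → ℚ) :=
    { toFun := fun f C => ∑ x : X, if x.1 ∈ C.1 then f x else 0
      map_add' := fun f g => by
        ext C; simp only [Pi.add_apply, ← Finset.sum_add_distrib]
        exact Finset.sum_congr rfl fun x _ => by split_ifs <;> simp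
      map_smul' := fun r f => by
        ext C; simp only [Pi.smul_apply, smul_eq_mul, RingHom.id_apply, Finset.mul_sum]
        exact Finset.sum_congr rfl fun x _ => by split_ifs <;> simp }
  have hTinj : Function.Injective T := by
    rw [← LinearMap.ker_eq_bot, LinearMap.ker_eq_bot']
    intro f hf
    have e1 : ∑ C ∈ 𝔇, (∑ x : X, if x.1 ∈ C then f x else 0) ^ 2 = 0 := by
      refine Finset.sum_eq_zero fun C hC => ?_
      have := congrFun hf ⟨C, hC⟩
      simp only [T, LinearMap.coe_mk, AddHom.coe_mk, Pi.zero_apply] at this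
      rw [this]; ring
    have e2 : ∀ x y : X, ∑ C ∈ 𝔇, (if x.1 ∈ C then f x else 0) * (if y.1 ∈ C then f y else 0) =
        (cnt {a, x.1, y.1} : ℚ) * (f x * f y) := by
      intro x y
      have : ∀ C : Finset α, (if x.1 ∈ C then f x else 0) * (if y.1 ∈ C then f y else 0) =
          if x.1 ∈ C ∧ y.1 ∈ C then f x * f y else 0 := by
        intro C; split_ifs with h1 h2 h3 <;> simp_all
      simp only [this]
      rw [← Finset.sum_filter, Finset.sum_const, nsmul_eq_mul]
      congr 3
      ext C
      simp [𝔇, Finset.insert_subset_iff, and_assoc]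
    have e3 : ∀ x y : X, (cnt {a, x.1, y.1} : ℚ) = cnt {a, b, c} +
        if x = y then ((cnt {a, b} : ℚ) - cnt {a, b, c}) else 0 := by
      intro x y
      by_cases hxy : x = y
      · subst hxy
        rw [if_pos rfl, show ({a, x.1, x.1} : Finset α) = {a, x.1} by simp, hpair x]
        ring
      · rw [if_neg hxy, htriple x y hxy, add_zero]
    simp only [pow_two, Finset.sum_mul_sum] at e1
    rw [Finset.sum_comm] at e1
    have e4 : ∑ x : X, ∑ y : X, (cnt {a, x.1, y.1} : ℚ) * (f x * f y) = 0 := by
      rw [← e1]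
      refine Finset.sum_congr rfl fun x _ => ?_
      rw [Finset.sum_comm]
      exact Finset.sum_congr rfl fun y _ => (e2 x y).symm
    simp only [e3, add_mul, Finset.sum_add_distrib, ite_mul, zero_mul] at e4
    rw [Finset.sum_congr rfl fun x _ => Fintype.sum_eq_single x
      (fun y hy => if_neg (Ne.symm hy))] at e4
    simp only [↓reduceIte, ← Finset.mul_sum, ← Finset.sum_mul] at e4
    have hμ : (cnt {a, b, c} : ℚ) < cnt {a, b} := by exact_mod_cast hlt
    have hsq : ∑ x : X, f x * f x = 0 := by
      have h1 : 0 ≤ (cnt {a, b, c} : ℚ) * ((∑ x, f x) * ∑ x, f x) :=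
        mul_nonneg (Nat.cast_nonneg _) (mul_self_nonneg _)
      have h2 : 0 ≤ ∑ x : X, f x * f x := Finset.sum_nonneg fun x _ => mul_self_nonneg _
      refine le_antisymm (le_of_not_gt fun hpos => ?_) h2
      nlinarith [mul_pos (sub_pos.2 hμ) hpos]
    funext x
    exact mul_self_eq_zero.1
      ((Finset.sum_eq_zero_iff_of_nonneg fun x _ => mul_self_nonneg _).1 hsq x (Finset.mem_univ x))
  have hdim := LinearMap.finrank_le_finrank_of_injective hTinj
  rw [Module.finrank_fintype_fun_eq_card, Module.finrank_fintype_fun_eq_card, Fintype.card_coe,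
    hX] at hdim
  have : 𝔇.card = cnt {a} := rfl
  omega

end Cfsg.Agent.PermLib
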