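import Cfsg.Agent.Perm.JordanCycle
import Cfsg.Agent.Perm.Basic
import Cfsg.Agent.Perm.Regular
import Mathlib.GroupTheory.SpecificGroups.Alternating
import Mathlib.GroupTheory.Perm.Cycle.Type
import Mathlib.Data.Finset.Prod
import Mathlib.GroupTheory.Perm.ViaEmbedding

/-!
Exclusion lemmas for transitive groups of degree 11: short elements, large Sylow subgroups.
-/

namespace Cfsg.Agent.PermLib.Eleven

open MulAction Equiv Equiv.Perm
open scoped Pointwise

/-- Averaging over an orbit: the mean number of points of `A` mapped into `A`. -/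
theorem sum_card_filter_mul {G β : Type*} [Group G] [Fintype G] [MulAction G β] [DecidableEq β]
    (O A : Finset β) (hA : A ⊆ O) (hO : ∀ x ∈ O, ∀ g : G, g • x ∈ O)
    (htr : ∀ x ∈ O, ∀ y ∈ O, ∃ g : G, g • x = y) :
    (∑ g : G, (A.filter fun u => g • u ∈ A).card) * O.card =
      A.card * A.card * Fintype.card G := by
  classical
  have hfib : ∀ u ∈ O, ∀ v ∈ O, (Finset.univ.filter fun g : G => g • u = v).card * O.card =
      Fintype.card G := by
    intro u hu v hv
    obtain ⟨k, hk⟩ := htr u hu v hv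
    have e1 : (Finset.univ.filter fun g : G => g • u = v).card = Nat.card (stabilizer G u) := by
      rw [Nat.card_eq_fintype_card, Fintype.card_subtype]
      refine Finset.card_bij' (fun g _ => k⁻¹ * g) (fun g _ => k * g) ?_ ?_ ?_ ?_
      · intro g hg
        simp only [Finset.mem_filter, Finset.mem_univ, true_and] at hg ⊢
        rw [mem_stabilizer_iff, mul_smul, hg, ← hk, inv_smul_smul]
      · intro g hg
        simp only [Finset.mem_filter, Finset.mem_univ, true_and] at hg ⊢
        rw [mul_smul, mem_stabilizer_iff.1 hg, hk]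
      · exact fun g _ => mul_inv_cancel_left k g
      · exact fun g _ => inv_mul_cancel_left k g
    have e2 : O.card = Nat.card (orbit G u) := by
      rw [Nat.card_coe_set_eq, ← Set.ncard_coe_finset]
      congr 1
      ext y
      refine ⟨fun hy => htr u hu y hy, ?_⟩
      rintro ⟨g, rfl⟩
      exact hO u hu g
    rw [e1, e2, mul_comm, card_orbit_mul_card_stabilizer, Nat.card_eq_fintype_card]
  simp only [Finset.card_filter]
  rw [Finset.sum_comm, Finset.sum_mul]
  have hu : ∀ u ∈ A, (∑ g : G, if g • u ∈ A then 1 else 0) * O.card =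
      A.card * Fintype.card G := by
    intro u hu
    have : ∀ g : G, (if g • u ∈ A then 1 else 0) = ∑ v ∈ A, if g • u = v then 1 else 0 := by
      intro g
      rw [Finset.sum_ite_eq]
    simp only [this]
    rw [Finset.sum_comm, Finset.sum_mul]
    rw [Finset.sum_congr rfl (g := fun _ => Fintype.card G) fun v hv => by
      rw [← Finset.card_filter]; exact hfib u (hA hu) v (hA hv)]
    rw [Finset.sum_const, smul_eq_mul]
  rw [Finset.sum_congr rfl hu, Finset.sum_const, smul_eq_mul, mul_assoc]

/-- In a 2-transitive group of degree 11 some translate of a 4-set meets it in exactly one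
point. -/
theorem exists_inter_card_one {G α : Type*} [Group G] [Fintype G] [MulAction G α] [Fintype α]
    [DecidableEq α] (h2 : IsMultiplyPretransitive G α 2) (hα : Fintype.card α = 11)
    (S : Finset α) (hS : S.card = 4) :
    ∃ g : G, (S.filter fun u => g • u ∈ S).card = 1 := by
  classical
  by_contra hne
  push Not at hne
  haveI : IsPretransitive G α := isPretransitive_of_is_two_pretransitive
  have h1 := sum_card_filter_mul (G := G) Finset.univ S (Finset.subset_univ _)
    (fun x _ g => Finset.mem_univ _) (fun x _ y _ => exists_smul_eq G x y)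
  rw [Finset.card_univ, hα, hS] at h1
  have h2' := sum_card_filter_mul (G := G) (Finset.univ : Finset α).offDiag S.offDiag
    (fun z hz => by
      rw [Finset.mem_offDiag] at hz ⊢
      exact ⟨Finset.mem_univ _, Finset.mem_univ _, hz.2.2⟩)
    (fun z hz g => by
      rw [Finset.mem_offDiag] at hz ⊢
      exact ⟨Finset.mem_univ _, Finset.mem_univ _, fun e => hz.2.2 (MulAction.injective g e)⟩)
    (fun z hz w hw => by
      rw [Finset.mem_offDiag] at hz hw
      obtain ⟨g, hg, hg'⟩ := is_two_pretransitive_iff.1 h2 hz.2.2 hw.2.2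
      exact ⟨g, Prod.ext hg hg'⟩)
  rw [Finset.offDiag_card, Finset.offDiag_card, Finset.card_univ, hα, hS] at h2'
  have key : ∀ g : G, (S.filter fun u => g • u ∈ S).card ≤
      (S.offDiag.filter fun z => g • z ∈ S.offDiag).card := by
    intro g
    have e : (S.offDiag.filter fun z => g • z ∈ S.offDiag) =
        (S.filter fun u => g • u ∈ S).offDiag := by
      ext ⟨u, v⟩
      simp only [Finset.mem_filter, Finset.mem_offDiag, Prod.smul_mk]
      constructor
      · rintro ⟨⟨a, b, c⟩, d, e, -⟩
        exact ⟨⟨a, d⟩, ⟨b, e⟩, c⟩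
      · rintro ⟨⟨a, d⟩, ⟨b, e⟩, c⟩
        exact ⟨⟨a, b, c⟩, d, e, fun h => c (MulAction.injective g h)⟩
    rw [e, Finset.offDiag_card]
    set i := (S.filter fun u => g • u ∈ S).card
    have hi : i ≠ 1 := hne g
    rcases Nat.eq_zero_or_pos i with h | h
    · omega
    · have : 2 * i ≤ i * i := Nat.mul_le_mul_right i (by omega)
      omega
  have hsum := Finset.sum_le_sum (s := (Finset.univ : Finset G)) fun g _ => key g
  have hpos : 0 < Fintype.card G := Fintype.card_pos
  omega

variable {α : Type*} [Fintype α] [DecidableEq α] {G : Subgroup (Perm α)}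

theorem commute_swap_swap {a b c d : α} (hac : a ≠ c) (had : a ≠ d) (hbc : b ≠ c) (hbd : b ≠ d) :
    Commute (swap a b) (swap c d) := by
  refine (Perm.Disjoint.commute fun x => ?_)
  by_cases hxa : x = a
  · subst hxa; exact Or.inr (swap_apply_of_ne_of_ne hac had)
  by_cases hxb : x = b
  · subst hxb; exact Or.inr (swap_apply_of_ne_of_ne hbc hbd)
  exact Or.inl (swap_apply_of_ne_of_ne hxa hxb)

/-- An involution moving four points, seen from one of them. -/
theorem eq_swap_mul_swap {x : Perm α} (hx : x * x = 1) (hcard : x.support.card = 4) {a : α}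
    (ha : a ∈ x.support) : ∃ b c d : α, x = swap a b * swap c d ∧ a ≠ b ∧ a ≠ c ∧ a ≠ d ∧ b ≠ c ∧
      b ≠ d ∧ c ≠ d ∧ x.support = {a, b, c, d} := by
  have hxx : ∀ y, x (x y) = y := fun y => by rw [← Perm.mul_apply, hx, Perm.one_apply]
  have hmem : ∀ y, y ∈ x.support → x y ∈ x.support := fun y hy => Perm.apply_mem_support.2 hy
  have hab : a ≠ x a := (Perm.mem_support.1 ha).symm
  have hcard' : ((x.support.erase a).erase (x a)).card = 2 := by
    rw [Finset.card_erase_of_mem (Finset.mem_erase.2 ⟨hab.symm, hmem a ha⟩),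
      Finset.card_erase_of_mem ha, hcard]
  obtain ⟨c, d, hcd, hcd'⟩ := Finset.card_eq_two.1 hcard'
  have hc : c ∈ (x.support.erase a).erase (x a) := by rw [hcd']; simp
  have hd : d ∈ (x.support.erase a).erase (x a) := by rw [hcd']; simp
  simp only [Finset.mem_erase] at hc hd
  have hxc : x c = d := by
    have h : x c ∈ (x.support.erase a).erase (x a) := by
      simp only [Finset.mem_erase]
      refine ⟨fun e => hc.2.1 (x.injective e), fun e => hc.1 ?_, hmem c hc.2.2⟩
      rw [← hxx c, e]
    rw [hcd'] at h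
    simp only [Finset.mem_insert, Finset.mem_singleton] at h
    exact h.resolve_left (Perm.mem_support.1 hc.2.2)
  have hxd : x d = c := by rw [← hxc, hxx]
  refine ⟨x a, c, d, ?_, hab, hc.2.1.symm, hd.2.1.symm, hc.1.symm, hd.1.symm, hcd, ?_⟩
  · refine Equiv.ext fun y => ?_
    rw [Perm.mul_apply]
    by_cases hy : y ∈ x.support
    · by_cases hya : y = a
      · subst hya; rw [swap_apply_of_ne_of_ne hc.2.1.symm hd.2.1.symm, swap_apply_left]
      by_cases hyb : y = x a
      · subst hyb; rw [swap_apply_of_ne_of_ne hc.1.symm hd.1.symm, swap_apply_right, hxx]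
      have hy' : y ∈ (x.support.erase a).erase (x a) := by simp [hy, hya, hyb]
      rw [hcd', Finset.mem_insert, Finset.mem_singleton] at hy'
      rcases hy' with rfl | rfl
      · rw [swap_apply_left, swap_apply_of_ne_of_ne hd.2.1 hd.1, hxc]
      · rw [swap_apply_right, swap_apply_of_ne_of_ne hc.2.1 hc.1, hxd]
    · have h1 : y ≠ a := fun e => hy (e ▸ ha)
      have h2 : y ≠ x a := fun e => hy (e ▸ hmem a ha)
      have h3 : y ≠ c := fun e => hy (e ▸ hc.2.2)
      have h4 : y ≠ d := fun e => hy (e ▸ hd.2.2)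
      rw [swap_apply_of_ne_of_ne h3 h4, swap_apply_of_ne_of_ne h1 h2, Perm.notMem_support.1 hy]
  · have e1 := Finset.insert_erase (Finset.mem_erase.2 ⟨hab.symm, hmem a ha⟩)
    rw [hcd'] at e1
    rw [← Finset.insert_erase ha, ← e1]

/-- A 2-transitive group of degree 11 containing a double transposition contains the alternating
group. -/
theorem alternatingGroup_le_of_double_transposition (hα : Fintype.card α = 11)
    (h2 : IsMultiplyPretransitive G α 2) {x : Perm α} (hxG : x ∈ G) (hx : x * x = 1)
    (hcard : x.support.card = 4) : alternatingGroup α ≤ G := by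
  classical
  obtain ⟨g, hg⟩ := exists_inter_card_one (G := G) h2 hα x.support hcard
  obtain ⟨u, hu⟩ := Finset.card_eq_one.1 hg
  have hu' : u ∈ x.support ∧ (g : Perm α) u ∈ x.support := by
    have : u ∈ ({u} : Finset α) := Finset.mem_singleton_self u
    rw [← hu, Finset.mem_filter] at this
    exact this
  have honly : ∀ w ∈ x.support, (g : Perm α) w ∈ x.support → w = u := by
    intro w h1 h2'
    have h3 : w ∈ x.support.filter fun u => g • u ∈ x.support := Finset.mem_filter.2 ⟨h1, h2'⟩
    rw [hu, Finset.mem_singleton] at h3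
    exact h3
  obtain ⟨b, c, d, hxeq, hab, hac, had, hbc, hbd, hcd, hsupp⟩ := eq_swap_mul_swap hx hcard hu'.2
  obtain ⟨b₀, c₀, d₀, hxeq₀, hab₀, hac₀, had₀, hbc₀, hbd₀, hcd₀, hsupp₀⟩ :=
    eq_swap_mul_swap hx hcard hu'.1
  set a := (g : Perm α) u
  let e := (g : Perm α) b₀
  let f := (g : Perm α) c₀
  let h := (g : Perm α) d₀
  have hy : (g : Perm α) * x * (g : Perm α)⁻¹ = swap a e * swap f h := by
    have hconj : ∀ (σ : Perm α) s t, σ * swap s t * σ⁻¹ = swap (σ s) (σ t) :=
      fun σ s t => (Equiv.swap_apply_apply σ s t).symm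
    conv_lhs => rw [hxeq₀]
    rw [show (g : Perm α) * (swap u b₀ * swap c₀ d₀) * (g : Perm α)⁻¹ =
      ((g : Perm α) * swap u b₀ * (g : Perm α)⁻¹) * ((g : Perm α) * swap c₀ d₀ * (g : Perm α)⁻¹)
      by group, hconj, hconj]
  have hae : a ≠ e := fun h' => hab₀ ((g : Perm α).injective h')
  have haf : a ≠ f := fun h' => hac₀ ((g : Perm α).injective h')
  have hah : a ≠ h := fun h' => had₀ ((g : Perm α).injective h')
  have hef : e ≠ f := fun h' => hbc₀ ((g : Perm α).injective h')
  have heh : e ≠ h := fun h' => hbd₀ ((g : Perm α).injective h')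
  have hfh : f ≠ h := fun h' => hcd₀ ((g : Perm α).injective h')
  have hout : ∀ w ∈ ({b₀, c₀, d₀} : Finset α), ∀ z ∈ ({b, c, d} : Finset α),
      z ≠ (g : Perm α) w := by
    intro w hw z hz hzw
    have hwS : w ∈ x.support := by rw [hsupp₀]; exact Finset.mem_insert_of_mem hw
    have hzS : z ∈ x.support := by rw [hsupp]; exact Finset.mem_insert_of_mem hz
    have := honly w hwS (hzw ▸ hzS)
    subst this
    simp only [Finset.mem_insert, Finset.mem_singleton] at hw
    rcases hw with h' | h' | h'
    exacts [hab₀ h', hac₀ h', had₀ h']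
  have hbe : b ≠ e := hout b₀ (by simp) b (by simp)
  have hbf : b ≠ f := hout c₀ (by simp) b (by simp)
  have hbh : b ≠ h := hout d₀ (by simp) b (by simp)
  have hce : c ≠ e := hout b₀ (by simp) c (by simp)
  have hcf : c ≠ f := hout c₀ (by simp) c (by simp)
  have hch : c ≠ h := hout d₀ (by simp) c (by simp)
  have hde : d ≠ e := hout b₀ (by simp) d (by simp)
  have hdf : d ≠ f := hout c₀ (by simp) d (by simp)
  have hdh : d ≠ h := hout d₀ (by simp) d (by simp)
  let A := swap a b
  let B := swap a e
  let C := swap c d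
  let D := swap f h
  have hCA : Commute C A := commute_swap_swap hac.symm hbc.symm had.symm hbd.symm
  have hCB : Commute C B := commute_swap_swap hac.symm hce had.symm hde
  have hDA : Commute D A := commute_swap_swap haf.symm hbf.symm hah.symm hbh.symm
  have hDB : Commute D B := commute_swap_swap haf.symm hef.symm hah.symm heh.symm
  have hCD : Commute C D := commute_swap_swap hcf hch hdf hdh
  have hC2 : C * C = 1 := swap_mul_self c d
  have hD2 : D * D = 1 := swap_mul_self f h
  have hz : (x * ((g : Perm α) * x * (g : Perm α)⁻¹)) * (x * ((g : Perm α) * x * (g : Perm α)⁻¹)) =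
      A * B * (A * B) := by
    rw [hy, hxeq]
    change A * C * (B * D) * (A * C * (B * D)) = _
    have e1 : A * C * (B * D) = A * B * (C * D) := by
      rw [mul_assoc A C, ← mul_assoc C B D, hCB.eq, mul_assoc B C D, mul_assoc A B]
    have e2 : Commute (C * D) (A * B) := ((hCA.mul_right hCB).mul_left (hDA.mul_right hDB))
    have e3 : C * D * (C * D) = 1 := by
      rw [mul_assoc, ← mul_assoc D C D, ← hCD.eq, mul_assoc C D D, hD2, mul_one, hC2]
    rw [e1, mul_assoc (A * B), ← mul_assoc (C * D) (A * B), e2.eq, mul_assoc (A * B) (C * D), e3,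
      mul_one]
  have hG : IsPreprimitive G α := isPreprimitive_of_is_two_pretransitive h2
  refine alternatingGroup_le_of_isPreprimitive_of_isThreeCycle_mem hG
    (isThreeCycle_swap_mul_swap_same hab hae hbe).isThreeCycle_sq ?_
  change A * B * (A * B) ∈ G
  rw [← hz]
  exact G.mul_mem (G.mul_mem hxG (G.mul_mem (G.mul_mem g.2 hxG) (G.inv_mem g.2)))
    (G.mul_mem hxG (G.mul_mem (G.mul_mem g.2 hxG) (G.inv_mem g.2)))

/-- An element of order a prime `q ≥ 5` moving fewer than `2 q` points. -/
theorem alternatingGroup_le_of_prime_element (hG : IsPreprimitive G α) {x : Perm α} (hxG : x ∈ G)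
    {q : ℕ} (hq : q.Prime) (hx : orderOf x = q) (hsupp : x.support.card < 2 * q)
    (hn : q + 3 ≤ Fintype.card α) : alternatingGroup α ≤ G := by
  have hc : x.IsCycle := isCycle_of_prime_order (by rwa [hx]) (by rwa [hx])
  exact alternatingGroup_le_of_prime_cycle hG hq hc (by rw [← hc.orderOf, hx]) hxG hn

theorem alternatingGroup_le_of_seven_dvd (hα : Fintype.card α = 11) (hG : IsPreprimitive G α)
    (h7 : 7 ∣ Nat.card G) : alternatingGroup α ≤ G := by
  haveI : Fact (Nat.Prime 7) := ⟨by decide⟩
  obtain ⟨⟨x, hxG⟩, hx⟩ := exists_prime_orderOf_dvd_card' 7 h7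
  rw [← Subgroup.orderOf_coe] at hx
  refine alternatingGroup_le_of_prime_element hG hxG (q := 7) (by decide) hx ?_ (by omega)
  have := Finset.card_le_univ x.support
  omega

/-- A subgroup of order 25 contains a 5-cycle. -/
theorem alternatingGroup_le_of_twentyfive_dvd (hα : Fintype.card α = 11) (hG : IsPreprimitive G α)
    (h25 : 25 ∣ Nat.card G) : alternatingGroup α ≤ G := by
  classical
  haveI : Fact (Nat.Prime 5) := ⟨by decide⟩
  obtain ⟨Q, hQ⟩ := Sylow.exists_subgroup_card_pow_prime (G := G) 5 (n := 2)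
    (by simpa using h25)
  have hQp : IsPGroup 5 Q := IsPGroup.of_card hQ
  haveI : Nontrivial Q := Finite.one_lt_card_iff_nontrivial.1 (by rw [hQ]; norm_num)
  obtain ⟨x, hx⟩ := exists_ne (1 : Q)
  obtain ⟨a, ha⟩ : ∃ a : α, x • a ≠ a := by
    by_contra h
    push Not at h
    exact hx (Subtype.ext (Subtype.ext (Equiv.ext h)))
  obtain ⟨k, hk⟩ := hQp.card_orbit a
  have h11 : Nat.card (orbit Q a) ≤ 11 := by
    rw [← hα, ← Nat.card_eq_fintype_card, Nat.card_coe_set_eq, ← Set.ncard_univ]
    exact Set.ncard_le_ncard (Set.subset_univ _)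
  have hk1 : k = 1 := by
    rcases k with - | - | k
    · exfalso
      rw [pow_zero, Nat.card_eq_one_iff_unique] at hk
      haveI := hk.1
      exact ha (congrArg Subtype.val
        (Subsingleton.elim (⟨x • a, mem_orbit a x⟩ : orbit Q a) ⟨a, mem_orbit_self a⟩))
    · rfl
    · rw [hk, show k + 1 + 1 = k + 2 from rfl] at h11
      have : (5 : ℕ) ^ 2 ≤ 5 ^ (k + 2) := Nat.pow_le_pow_right (by norm_num) (by omega)
      simp only [Nat.reducePow] at this
      omega
  subst hk1
  have hmul := card_orbit_mul_card_stabilizer (G := Q) a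
  rw [hk, hQ] at hmul
  -- an element fixing the orbit pointwise
  have hst : Nat.card (stabilizer Q a) = 5 := by simp only [Nat.reducePow] at hmul; omega
  haveI : Nontrivial (stabilizer Q a) := Finite.one_lt_card_iff_nontrivial.1 (by rw [hst]; norm_num)
  obtain ⟨y, hy⟩ := exists_ne (1 : stabilizer Q a)
  have hcomm := IsPGroup.isMulCommutative_of_card_eq_prime_sq (G := Q) hQ
  have hfix : ∀ z ∈ orbit Q a, (y : Q) • z = z := by
    rintro _ ⟨w, rfl⟩
    change (y : Q) • w • a = w • a
    rw [smul_smul, hcomm.is_comm.comm, mul_smul, mem_stabilizer_iff.1 y.2]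
  let z : Perm α := ((y : Q) : G)
  have hz : orderOf z = 5 := by
    have h1 : orderOf y = 5 := by
      rcases (Nat.dvd_prime (by decide)).1 (hst ▸ orderOf_dvd_natCard y) with h | h
      · exact absurd (orderOf_eq_one_iff.1 h) hy
      · exact h
    rw [← h1, ← Subgroup.orderOf_coe y, ← Subgroup.orderOf_coe (y : Q),
      ← Subgroup.orderOf_coe ((y : Q) : G)]
  refine alternatingGroup_le_of_prime_element hG (x := z) ((y : Q) : G).2 (q := 5) (by decide)
    hz ?_ (by omega)
  have hdisj : Disjoint z.support (orbit Q a).toFinset := by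
    refine Finset.disjoint_left.2 fun w hw hw' => ?_
    exact Perm.mem_support.1 hw (hfix w (Set.mem_toFinset.1 hw'))
  have := Finset.card_le_univ (z.support ∪ (orbit Q a).toFinset)
  rw [Finset.card_union_of_disjoint hdisj, hα, Set.toFinset_card, ← Nat.card_eq_fintype_card, hk]
    at this
  omega

/-- Three double transpositions on four points form, with the identity, a 2-group. -/
theorem exists_klein (h : 4 ≤ Fintype.card α) : ∃ V : Subgroup (Perm α), Nat.card V = 4 ∧
    V ≤ alternatingGroup α ∧ ∀ v ∈ V, v ≠ 1 → v * v = 1 ∧ v.support.card = 4 := by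
  classical
  obtain ⟨ι⟩ : Nonempty (Fin 4 ↪ α) := Function.Embedding.nonempty_of_card_le (by simpa using h)
  let φ : Perm (Fin 4) →* Perm α := Perm.viaEmbeddingHom ι
  have hφ : Function.Injective φ := Perm.viaEmbeddingHom_injective ι
  let V₀ : Subgroup (Perm (Fin 4)) :=
    { carrier := {v | v = 1 ∨ v = swap 0 1 * swap 2 3 ∨ v = swap 0 2 * swap 1 3 ∨
        v = swap 0 3 * swap 1 2}
      one_mem' := Or.inl rfl
      mul_mem' := by
        rintro u v (rfl | rfl | rfl | rfl) (rfl | rfl | rfl | rfl) <;>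
          simp only [Set.mem_setOf_eq] <;> decide +kernel
      inv_mem' := by
        rintro v (rfl | rfl | rfl | rfl) <;> simp only [Set.mem_setOf_eq] <;> decide +kernel }
  have hV : ∀ v ∈ V₀, v ≠ 1 → v * v = 1 ∧ v.support.card = 4 ∧ Perm.sign v = 1 := by
    rintro v (rfl | rfl | rfl | rfl) hne
    · exact absurd rfl hne
    all_goals decide +kernel
  refine ⟨V₀.map φ, ?_, ?_, ?_⟩
  · rw [← Nat.card_congr (V₀.equivMapOfInjective φ hφ).toEquiv]
    have e : (V₀ : Set (Perm (Fin 4))) = ↑({1, swap 0 1 * swap 2 3, swap 0 2 * swap 1 3,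
        swap 0 3 * swap 1 2} : Finset (Perm (Fin 4))) := by
      ext v
      simp [V₀]
    change Nat.card ↥(V₀ : Set (Perm (Fin 4))) = 4
    rw [Nat.card_coe_set_eq, e, Set.ncard_coe_finset]
    decide +kernel
  · rintro _ ⟨v, hv, rfl⟩
    rw [mem_alternatingGroup]
    change Perm.sign (Perm.viaEmbedding v ι) = 1
    unfold Perm.viaEmbedding
    rw [Perm.sign_extendDomain]
    by_cases h1 : v = 1
    · simp [h1]
    · exact (hV v hv h1).2.2
  · rintro _ ⟨v, hv, rfl⟩ hne
    have h1 : v ≠ 1 := fun e => hne (by rw [e, map_one])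
    obtain ⟨a, b, -⟩ := hV v hv h1
    refine ⟨by rw [← map_mul, a, map_one], ?_⟩
    change (Perm.viaEmbedding v ι).support.card = 4
    unfold Perm.viaEmbedding
    convert (Perm.card_support_extend_domain _).trans b

/-- A group of even permutations of degree 11 of order divisible by 64 contains a double
transposition. -/
theorem alternatingGroup_le_of_sixtyfour_dvd (hα : Fintype.card α = 11)
    (h2 : IsMultiplyPretransitive G α 2) (hA : G ≤ alternatingGroup α)
    (h64 : 64 ∣ Nat.card G) : alternatingGroup α ≤ G := by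
  classical
  haveI : Fact (Nat.Prime 2) := ⟨Nat.prime_two⟩
  let A := alternatingGroup α
  haveI : Nontrivial α := Fintype.one_lt_card_iff_nontrivial.1 (by omega)
  obtain ⟨Q₀, hQ₀⟩ := Sylow.exists_subgroup_card_pow_prime (G := G) 2 (n := 6)
    (by simpa using h64)
  let Q : Subgroup A := (Q₀.map G.subtype).subgroupOf A
  have hQle : Q₀.map G.subtype ≤ A := (Subgroup.map_subtype_le Q₀).trans hA
  have hQ : Nat.card Q = 2 ^ 6 := by
    rw [Nat.card_congr (Subgroup.subgroupOfEquivOfLe hQle).toEquiv,
      Subgroup.card_map_of_injective G.subtype_injective, hQ₀]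
  obtain ⟨T, hT⟩ := (IsPGroup.of_card hQ).exists_le_sylow
  have hA' : 2 * Nat.card A = 39916800 := by
    have h := two_mul_card_alternatingGroup (α := α)
    rw [← Nat.card_eq_fintype_card, Fintype.card_perm, hα] at h
    rw [h]; decide
  have hTle : Nat.card (T : Subgroup A) ≤ 2 ^ 7 := by
    obtain ⟨k, hk⟩ := T.isPGroup'.exists_card_eq
    rw [hk]
    refine Nat.pow_le_pow_right two_pos ?_
    by_contra hk8
    have h1 : 2 ^ 8 ∣ Nat.card A :=
      (pow_dvd_pow 2 (by omega)).trans (hk ▸ Subgroup.card_subgroup_dvd_card (T : Subgroup A))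
    obtain ⟨r, hr⟩ := h1
    omega
  obtain ⟨V₀, hV₀, hVA, hV⟩ := exists_klein (α := α) (by omega)
  let V : Subgroup A := V₀.subgroupOf A
  have hVc : Nat.card V = 2 ^ 2 := by
    rw [Nat.card_congr (Subgroup.subgroupOfEquivOfLe hVA).toEquiv, hV₀]; rfl
  obtain ⟨T', hT'⟩ := (IsPGroup.of_card hVc).exists_le_sylow
  obtain ⟨k, hk⟩ := exists_smul_eq A T' T
  let V' : Subgroup A := V.map (MulAut.conj k).toMonoidHom
  have hV'c : Nat.card V' = 4 := by
    rw [Subgroup.card_map_of_injective (MulAut.conj k).injective, hVc]; rfl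
  have hV'T : V' ≤ (T : Subgroup A) := by
    rintro _ ⟨v, hv, rfl⟩
    rw [← hk, Sylow.coe_subgroup_smul]
    exact Subgroup.smul_mem_pointwise_smul _ (MulAut.conj k) _ (hT' hv)
  have hne : Q ⊓ V' ≠ ⊥ := by
    intro hbot
    have h1 : (Q.subgroupOf (T : Subgroup A)) ⊓ (V'.subgroupOf (T : Subgroup A)) = ⊥ := by
      rw [Subgroup.eq_bot_iff_forall]
      rintro t ⟨ht1, ht2⟩
      exact Subtype.ext ((Subgroup.eq_bot_iff_forall _).1 hbot _ ⟨ht1, ht2⟩)
    have h2' : Nat.card (Q.subgroupOf (T : Subgroup A)) *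
        Nat.card (V'.subgroupOf (T : Subgroup A)) ≤ Nat.card (T : Subgroup A) := by
      rw [← Nat.card_prod]
      refine Nat.card_le_card_of_injective (fun z => (z.1 : (T : Subgroup A)) * z.2) ?_
      exact Subgroup.mul_injective_of_disjoint (disjoint_iff.2 h1)
    rw [Nat.card_congr (Subgroup.subgroupOfEquivOfLe hT).toEquiv,
      Nat.card_congr (Subgroup.subgroupOfEquivOfLe hV'T).toEquiv, hQ, hV'c] at h2'
    omega
  obtain ⟨z, hz, hz1⟩ := (Subgroup.bot_or_exists_ne_one (Q ⊓ V')).resolve_left hne
  obtain ⟨v, hv, hvz⟩ := hz.2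
  have hv1 : (v : Perm α) ≠ 1 := fun e => hz1 (by
    rw [← hvz, show v = 1 from Subtype.ext e, map_one])
  obtain ⟨hvv, hvs⟩ : (v : Perm α) * v = 1 ∧ (v : Perm α).support.card = 4 := hV _ hv hv1
  have hzG : (z : Perm α) ∈ G := Subgroup.map_subtype_le Q₀ hz.1
  have hzconj : (z : Perm α) = (k : Perm α) * v * (k : Perm α)⁻¹ := by
    rw [← hvz]; rfl
  refine alternatingGroup_le_of_double_transposition hα h2 hzG ?_ ?_
  · rw [hzconj]
    calc (k : Perm α) * v * (k : Perm α)⁻¹ * ((k : Perm α) * v * (k : Perm α)⁻¹)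
        = (k : Perm α) * (v * v) * (k : Perm α)⁻¹ := by group
      _ = 1 := by rw [hvv]; group
  · rw [hzconj, Perm.card_support_conj, hvs]

end Cfsg.Agent.PermLib.Eleven
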