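import Cfsg.Agent.Perm.PrimeDegree
import Mathlib.GroupTheory.SpecificGroups.Alternating
import Mathlib.GroupTheory.Transfer
import Mathlib.GroupTheory.Sylow

/-!
Transitive permutation groups of prime degree `p ≡ 3 (mod 4)`: the even part has an odd Sylow
normalizer.
-/

namespace Cfsg.Agent.PermLib

open MulAction

variable {α : Type*} [Fintype α] [DecidableEq α] {p : ℕ} [Fact p.Prime]

/-- A non-solvable transitive group of prime degree is not self-centralizing at `P`: the
normalizer of a Sylow subgroup is bigger than `P`. -/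
theorem card_normalizer_ne_prime (hα : Fintype.card α = p) (G : Subgroup (Equiv.Perm α))
    [IsPretransitive G α] (hG : ¬ Group.IsSolvable G) (P : Sylow p G) :
    Nat.card (Subgroup.normalizer ((P : Subgroup G) : Set G)) ≠ p := by
  intro hN
  have hP := card_sylow_of_prime_degree hα P
  have hNP : (P : Subgroup G) = Subgroup.normalizer ((P : Subgroup G) : Set G) :=
    Subgroup.eq_of_le_of_card_ge Subgroup.le_normalizer (by rw [hN, hP])
  haveI : IsCyclic (P : Subgroup G) := isCyclic_of_prime_card hP
  have hle : Subgroup.normalizer ((P : Subgroup G) : Set G) ≤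
      Subgroup.centralizer ((P : Subgroup G) : Set G) := by
    intro x hx m hm
    rw [← hNP] at hx
    exact congrArg Subtype.val
      ((IsCyclic.isMulCommutative (α := (P : Subgroup G))).is_comm.comm ⟨m, hm⟩ ⟨x, hx⟩)
  let K := (MonoidHom.transferSylow P hle).ker
  have hcompl : K.IsComplement' P := MonoidHom.ker_transferSylow_isComplement' P hle
  have hpK : ¬ p ∣ Nat.card K := MonoidHom.not_dvd_card_ker_transferSylow P hle
  have hp : p.Prime := Fact.out
  haveI : IsPreprimitive G α := IsPreprimitive.of_prime_card (by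
    rwa [Nat.card_eq_fintype_card, hα])
  haveI : Nonempty α := by
    rw [← Fintype.card_pos_iff, hα]; exact hp.pos
  have hK : K = ⊥ := by
    by_contra hK
    haveI := isPretransitive_of_normal_ne_bot (α := α) hK
    refine hpK ?_
    rw [← hα, ← Nat.card_eq_fintype_card]
    exact card_dvd_card
  apply hG
  have hcard : Nat.card G = p := by
    rw [← hcompl.card_mul_card, hP, hK, Subgroup.card_bot, one_mul]
  haveI : IsCyclic G := isCyclic_of_prime_card hcard
  exact Group.isSolvable_of_comm fun a b => (IsCyclic.isMulCommutative (α := G)).is_comm.comm a b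

/-- A reflection of a cycle of length `p` is odd when negation of `ZMod p` is. -/
theorem sign_reflection (hneg : Equiv.Perm.sign (Equiv.neg (ZMod p)) = -1)
    (e : ZMod p ≃ α) (t : Equiv.Perm α) (hte : ∀ j, t (e j) = e (-j)) :
    Equiv.Perm.sign t = -1 := by
  have h : e.permCongr (Equiv.neg (ZMod p)) = t := by
    refine Equiv.ext fun x => ?_
    obtain ⟨j, rfl⟩ := e.surjective x
    rw [Equiv.permCongr_apply, Equiv.symm_apply_apply, hte]
    rfl
  rw [← h, Equiv.Perm.sign_permCongr, hneg]

/-- If negation of `ZMod p` is odd and the transitive group consists of even permutations, its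
Sylow normalizers have odd order. -/
theorem odd_normalizer_of_le_alternating (hp2 : p ≠ 2)
    (hneg : Equiv.Perm.sign (Equiv.neg (ZMod p)) = -1) (hα : Fintype.card α = p)
    (G : Subgroup (Equiv.Perm α)) [IsPretransitive G α] (hle : G ≤ alternatingGroup α)
    (P : Sylow p G) : Odd (Nat.card (Subgroup.normalizer ((P : Subgroup G) : Set G))) := by
  rw [← Nat.not_even_iff_odd]
  intro heven
  obtain ⟨e, σ, t, -, -, -, -, hte⟩ := exists_coords_of_even_normalizer hp2 hα P heven
  have h1 : Equiv.Perm.sign (t : Equiv.Perm α) = -1 := sign_reflection hneg e _ hte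
  rw [Equiv.Perm.mem_alternatingGroup.1 (hle t.2)] at h1
  exact absurd h1 (by decide)

/-- The even part of a non-solvable transitive group of prime degree. -/
theorem alternating_part (hp2 : p ≠ 2) (hα : Fintype.card α = p) (G : Subgroup (Equiv.Perm α))
    [IsPretransitive G α] (hG : ¬ Group.IsSolvable G) :
    ∃ G₀ : Subgroup (Equiv.Perm α), G₀ ≤ G ∧ G₀ ≤ alternatingGroup α ∧
      IsPretransitive G₀ α ∧ ¬ Group.IsSolvable G₀ ∧
      (G₀ = G ∨ Nat.card G = 2 * Nat.card G₀) := by
  let sg : G →* ℤˣ := Equiv.Perm.sign.comp G.subtype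
  let G₀ : Subgroup (Equiv.Perm α) := G ⊓ alternatingGroup α
  have hker : sg.ker = G₀.subgroupOf G := by
    ext g
    simp [sg, G₀, Subgroup.mem_subgroupOf, Equiv.Perm.mem_alternatingGroup]
  obtain ⟨σ, hσ⟩ := exists_orderOf_eq_prime (G := G) hα
  obtain ⟨e, he⟩ := exists_coords hα hσ
  have hodd : Odd p := (Fact.out : p.Prime).odd_of_ne_two hp2
  have hσA : (σ : Equiv.Perm α) ∈ alternatingGroup α := by
    rw [Equiv.Perm.mem_alternatingGroup]
    have h1 : Equiv.Perm.sign (σ : Equiv.Perm α) ^ p = 1 := by
      rw [← map_pow, ← SubgroupClass.coe_pow, ← hσ, pow_orderOf_eq_one]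
      simp
    rcases Int.units_eq_one_or (Equiv.Perm.sign (σ : Equiv.Perm α)) with h | h
    · exact h
    · rw [h, hodd.neg_one_pow] at h1
      exact absurd h1 (by decide)
  haveI htrans : IsPretransitive G₀ α :=
    isPretransitive_of_coords (σ := (⟨σ, σ.2, hσA⟩ : G₀)) e he
  refine ⟨G₀, inf_le_left, inf_le_right, htrans, fun hs => hG ?_, ?_⟩
  · haveI := hs
    haveI : Group.IsSolvable sg.ker := by
      rw [hker]
      exact Group.isSolvable_of_isSolvable_injective
        (f := (Subgroup.subgroupOfEquivOfLe (inf_le_left : G₀ ≤ G)).toMonoidHom)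
        (Subgroup.subgroupOfEquivOfLe _).injective
    exact Group.isSolvable_of_ker_le_range sg.ker.subtype sg (by rw [Subgroup.range_subtype])
  · have hidx : sg.ker.index ∣ 2 := by
      rw [Subgroup.index_ker]
      refine (Subgroup.card_subgroup_dvd_card sg.range).trans ?_
      rw [Nat.card_eq_fintype_card, Fintype.card_units_int]
    have hmul := sg.ker.index_mul_card
    rw [hker, Nat.card_congr (Subgroup.subgroupOfEquivOfLe (inf_le_left : G₀ ≤ G)).toEquiv] at hmul
    rw [hker] at hidx
    rcases (Nat.dvd_prime Nat.prime_two).1 hidx with h | h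
    · left
      rw [h, one_mul] at hmul
      exact Subgroup.eq_of_le_of_card_ge inf_le_left (le_of_eq hmul.symm)
    · right
      rw [h] at hmul
      exact hmul.symm

/-- If the group is at least half of the symmetric group, it contains the alternating group. -/
theorem alternatingGroup_le_of_card (G : Subgroup (Equiv.Perm α))
    (h : (Fintype.card α).factorial ≤ 2 * Nat.card G) : alternatingGroup α ≤ G := by
  have hmul := G.index_mul_card
  rw [Nat.card_perm, Nat.card_eq_fintype_card (α := α)] at hmul
  have hpos : 0 < Nat.card G := Nat.card_pos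
  have hidx : G.index = 1 ∨ G.index = 2 := by
    have h1 : G.index ≠ 0 := Subgroup.index_ne_zero_of_finite
    have : G.index ≤ 2 := Nat.le_of_mul_le_mul_right (hmul.trans_le h) hpos
    omega
  rcases hidx with h1 | h1
  · rw [Subgroup.index_eq_one.1 h1]; exact le_top
  · rw [Equiv.Perm.eq_alternatingGroup_of_index_eq_two h1]

/-- The numerical data of a non-solvable transitive group of prime degree with odd Sylow
normalizer. -/
theorem card_data (hα : Fintype.card α = p) (G : Subgroup (Equiv.Perm α))
    [IsPretransitive G α] (hG : ¬ Group.IsSolvable G) (P : Sylow p G) :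
    ∃ n d : ℕ, Nat.card (Subgroup.normalizer ((P : Subgroup G) : Set G)) = p * d ∧
      d ∣ p - 1 ∧ d ≠ 1 ∧ n % p = 1 ∧ n ≠ 1 ∧ Nat.card G = n * (p * d) ∧
      n * (p * d) ∣ p.factorial ∧ p * (p - 1) ∣ n * (p * d) := by
  classical
  have hp : p.Prime := Fact.out
  have hP := card_sylow_of_prime_degree hα P
  set N := Subgroup.normalizer ((P : Subgroup G) : Set G)
  obtain ⟨d, hd⟩ : p ∣ Nat.card N := hP ▸ Subgroup.card_dvd_of_le Subgroup.le_normalizer
  have hmul : Nat.card (Sylow p G) * Nat.card N = Nat.card G := by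
    rw [P.card_eq_index_normalizer, mul_comm]
    exact Subgroup.card_mul_index N
  obtain ⟨σ, hσ⟩ := exists_prime_orderOf_dvd_card' (G := (P : Subgroup G)) p (dvd_of_eq hP.symm)
  rw [← Subgroup.orderOf_coe] at hσ
  obtain ⟨e, he⟩ := exists_coords hα hσ
  -- the normalizer acts affinely
  have hdp : d ∣ p - 1 := by
    let φ := Subgroup.normalizerMonoidHom (P : Subgroup G)
    have hker : Nat.card φ.ker ≤ p := by
      refine le_of_le_of_eq ?_ ((Nat.card_eq_fintype_card (α := α)).trans hα)
      refine Nat.card_le_card_of_injective (fun c : φ.ker => ((c : N) : G) • e 0) fun c c' h => ?_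
      have hc : ∀ (c : φ.ker), ((c : N) : G) * σ = σ * ((c : N) : G) := by
        intro c
        have h1 := congrArg Subtype.val (DFunLike.congr_fun (MonoidHom.mem_ker.1 c.2) σ)
        exact mul_inv_eq_iff_eq_mul.1 h1
      refine Subtype.ext (Subtype.ext (FaithfulSMul.eq_of_smul_eq_smul (α := α) fun x => ?_))
      obtain ⟨j, rfl⟩ := e.surjective x
      obtain ⟨m, rfl⟩ := ZMod.natCast_zmod_surjective j
      induction m with
      | zero => simpa using h
      | succ m ih => rw [Nat.cast_succ, ← he, smul_smul, smul_smul, hc, hc, mul_smul, mul_smul, ih]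
    haveI : IsCyclic (P : Subgroup G) := isCyclic_of_prime_card hP
    have haut : Nat.card (MulAut (P : Subgroup G)) = p - 1 := by
      rw [IsCyclic.card_mulAut, hP, Nat.totient_prime hp]
    have hpker : p ∣ Nat.card φ.ker := by
      refine hP.symm.dvd.trans ?_
      exact Subgroup.card_dvd_of_injective
        ({ toFun := fun u => ⟨⟨u, Subgroup.le_normalizer u.2⟩, by
            rw [MonoidHom.mem_ker]
            refine MulEquiv.ext fun v => Subtype.ext ?_
            change (u : G) * v * (u : G)⁻¹ = v
            rw [show (u : G) * v = v * u from congrArg Subtype.val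
              ((IsCyclic.isMulCommutative (α := (P : Subgroup G))).is_comm.comm u v),
              mul_inv_cancel_right]⟩
           map_one' := rfl
           map_mul' := fun _ _ => rfl } : (P : Subgroup G) →* φ.ker)
        fun u v h => Subtype.ext (congrArg (fun z : φ.ker => ((z : N) : G)) h)
    have hkp : Nat.card φ.ker = p := le_antisymm hker (Nat.le_of_dvd Nat.card_pos hpker)
    have h3 := φ.ker.index_mul_card
    rw [Subgroup.index_ker, hkp, hd, mul_comm p d] at h3
    have h4 : Nat.card φ.range = d := Nat.eq_of_mul_eq_mul_right hp.pos h3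
    exact h4 ▸ haut ▸ Subgroup.card_subgroup_dvd_card _
  have hne := card_normalizer_ne_prime hα G hG P
  rw [hd] at hmul hne
  haveI : Nonempty α := by rw [← Fintype.card_pos_iff, hα]; exact hp.pos
  have hfac : Nat.card G ∣ p.factorial := by
    have := Subgroup.card_subgroup_dvd_card G
    rwa [Nat.card_perm, Nat.card_eq_fintype_card (α := α), hα] at this
  have h2 := two_pretransitive_of_not_solvable hα hG
  have hpp : p * (p - 1) ∣ Nat.card G := by
    obtain ⟨a⟩ := ‹Nonempty α›
    rw [card_eq_mul_card_stabilizer (G := G) a, Nat.card_eq_fintype_card (α := α), hα]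
    refine mul_dvd_mul_left p ?_
    haveI : Nontrivial α := Fintype.one_lt_card_iff_nontrivial.1 (hα ▸ hp.one_lt)
    obtain ⟨b, hb⟩ := exists_ne a
    have horb : orbit (stabilizer G a) b = {a}ᶜ := by
      ext x
      refine ⟨?_, fun hx => ?_⟩
      · rintro ⟨g, rfl⟩ hx
        exact hb (MulAction.injective (g : G) (hx.trans g.2.symm))
      · obtain ⟨g, hg, hg'⟩ := (two_pretransitive_iff_stabilizer a).1 h2 b x hb hx
        exact ⟨⟨g, hg⟩, hg'⟩
    have h3 := card_orbit_mul_card_stabilizer (G := stabilizer G a) b
    rw [horb, Nat.card_coe_set_eq, Set.ncard_compl, Set.ncard_singleton, Nat.card_eq_fintype_card,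
      hα] at h3
    exact ⟨_, h3.symm⟩
  have hn : Nat.card (Sylow p G) % p = 1 := by
    have := card_sylow_modEq_one p G
    rw [Nat.ModEq, Nat.one_mod_eq_one.2 hp.ne_one] at this
    exact this
  refine ⟨Nat.card (Sylow p G), d, hd, hdp, fun h => hne (by rw [h, mul_one]), hn, ?_,
    hmul.symm, hmul.symm ▸ hfac, hmul.symm ▸ hpp⟩
  intro hn1
  haveI : IsPreprimitive G α := IsPreprimitive.of_prime_card (by
    rwa [Nat.card_eq_fintype_card, hα])
  -- a unique Sylow subgroup would be normal and regular, forcing solvability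
  haveI : Subsingleton (Sylow p G) := (Nat.card_eq_one_iff_unique.1 hn1).1
  haveI hPn : (P : Subgroup G).Normal := P.normal_of_subsingleton
  apply hG
  haveI : IsCyclic (P : Subgroup G) := isCyclic_of_prime_card hP
  haveI : Group.IsSolvable (P : Subgroup G) :=
    Group.isSolvable_of_comm fun a b =>
      (IsCyclic.isMulCommutative (α := (P : Subgroup G))).is_comm.comm a b
  refine isSolvable_of_affine e fun g => ?_
  intro j
  obtain ⟨k, hk⟩ : ∃ k : ℕ, g * (σ : G) * g⁻¹ = (σ : G) ^ k := by
    have hmem : g * (σ : G) * g⁻¹ ∈ (P : Subgroup G) := hPn.conj_mem _ σ.2 g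
    have hz : Subgroup.zpowers (σ : G) = (P : Subgroup G) :=
      Subgroup.eq_of_le_of_card_ge (Subgroup.zpowers_le.2 σ.2) (by rw [Nat.card_zpowers, hσ, hP])
    have hmem := mem_powers_iff_mem_zpowers.2 ((SetLike.ext_iff.1 hz _).2 hmem)
    obtain ⟨k, hk⟩ := hmem
    exact ⟨k, hk.symm⟩
  have hpw : ∀ (m : ℕ) i, (σ : G) ^ m • e i = e (i + m) := by
    intro m
    induction m with
    | zero => simp
    | succ m ih => intro i; rw [pow_succ', mul_smul, ih, he, Nat.cast_succ, add_assoc]
  have hstep : ∀ i, coordMap e g (i + 1) = coordMap e g i + (k : ZMod p) := by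
    intro i
    have : g • e (i + 1) = (σ : G) ^ k • g • e i := by
      rw [← he, smul_smul, smul_smul, ← hk, inv_mul_cancel_right]
    simp only [coordMap]
    rw [this]
    conv_lhs => rw [← e.apply_symm_apply (g • e i), hpw]
    simp
  have hlin : ∀ m : ℕ, coordMap e g m = (k : ZMod p) * m + coordMap e g 0 := by
    intro m
    induction m with
    | zero => simp
    | succ m ih => rw [Nat.cast_succ, hstep, ih]; ring
  obtain ⟨m, rfl⟩ := ZMod.natCast_zmod_surjective j
  have h1 := hlin 1
  rw [Nat.cast_one] at h1
  rw [hlin m, h1]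
  ring

end Cfsg.Agent.PermLib
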