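import Cfsg.Agent.Perm.ElevenM
import Cfsg.Agent.Perm.PrimeSign
import Cfsg.Agent.Sharply.SimpleCrit
import Mathlib.NumberTheory.Divisors

/-!
Non-solvable transitive groups of degree 11: simple of order 660 or sharply 4-transitive.
-/

namespace Cfsg.Agent.PermLib.Eleven

open MulAction Equiv Equiv.Perm
open scoped Pointwise

variable {α : Type*} [Fintype α] [DecidableEq α]

instance fact_prime_eleven : Fact (Nat.Prime 11) := ⟨by decide⟩

theorem order_arith {n : ℕ} (h : n ∣ 362880) (h7 : ¬ 7 ∣ n) (h5 : ¬ 5 ∣ n) (h64 : ¬ 64 ∣ n)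
    (he : n % 2 = 0) (hm : n % 11 = 1) : n = 12 ∨ n = 144 := by
  have h35 : Nat.Coprime n 35 := by
    rw [show (35 : ℕ) = 5 * 7 from rfl]
    exact Nat.Coprime.mul_right ((Nat.Prime.coprime_iff_not_dvd (by decide)).2 h5).symm
      ((Nat.Prime.coprime_iff_not_dvd (by decide)).2 h7).symm
  have h' : n ∣ 35 * 10368 := h
  have hn : n ∈ Nat.divisors 10368 :=
    Nat.mem_divisors.2 ⟨h35.dvd_of_dvd_mul_left h', by norm_num⟩
  have key : ∀ m ∈ Nat.divisors 10368, ¬ 64 ∣ m → m % 2 = 0 → m % 11 = 1 → m = 12 ∨ m = 144 := by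
    decide +kernel
  exact key n hn h64 he hm

theorem neg_odd : Perm.sign (Equiv.neg (ZMod 11)) = -1 := by decide +kernel

/-- The even part of the group: orders 660 and 7920. -/
theorem even_part_card (hα : Fintype.card α = 11) (G : Subgroup (Perm α)) [IsPretransitive G α]
    (hs : ¬ Group.IsSolvable G) (hle : G ≤ alternatingGroup α)
    (hA : ¬ alternatingGroup α ≤ G) : Nat.card G = 660 ∨ Nat.card G = 7920 := by
  obtain ⟨P⟩ : Nonempty (Sylow 11 G) := inferInstance
  have hodd := odd_normalizer_of_le_alternating (by decide) neg_odd hα G hle P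
  obtain ⟨n, d, hN, hd, hd1, hn11, hn1, hc, hfac, hpp⟩ := card_data hα G hs P
  have h2 := two_pretransitive_of_not_solvable hα hs
  have hprim : IsPreprimitive G α := isPreprimitive_of_is_two_pretransitive h2
  rw [hN, Nat.odd_iff] at hodd
  have hd' := Nat.le_of_dvd (by decide) hd
  have hd5 : d = 5 := by interval_cases d <;> omega
  subst hd5
  haveI : Nontrivial α := Fintype.one_lt_card_iff_nontrivial.1 (by omega)
  have hcA : Nat.card (alternatingGroup α) = 19958400 := by
    have h := two_mul_card_alternatingGroup (α := α)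
    rw [← Nat.card_eq_fintype_card, Fintype.card_perm, hα] at h
    have h' : Nat.factorial 11 = 39916800 := by decide
    omega
  have hn : n ∣ 362880 := by
    have h := hc ▸ hcA ▸ Subgroup.card_dvd_of_le hle
    obtain ⟨r, hr⟩ := h
    exact ⟨r, by linarith⟩
  have heven : n % 2 = 0 := by
    obtain ⟨r, hr⟩ := hpp
    omega
  have h7 : ¬ 7 ∣ n := fun h =>
    hA (alternatingGroup_le_of_seven_dvd hα hprim (hc ▸ h.mul_right _))
  have h5 : ¬ 5 ∣ n := fun h => hA (alternatingGroup_le_of_twentyfive_dvd hα hprim
    (hc ▸ mul_dvd_mul h (show 5 ∣ 11 * 5 from dvd_mul_left 5 11)))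
  have h64 : ¬ 64 ∣ n := fun h =>
    hA (alternatingGroup_le_of_sixtyfour_dvd hα h2 hle (hc ▸ h.mul_right _))
  rcases order_arith hn h7 h5 h64 heven hn11 with rfl | rfl
  · left; rw [hc]
  · right; rw [hc]

/-- There is no transitive group of order 15840 above a sharply 4-transitive one. -/
theorem no_double_order (hα : Fintype.card α = 11) (G G₀ : Subgroup (Perm α))
    [IsPretransitive G α] (hA : ¬ alternatingGroup α ≤ G) (hle : G₀ ≤ G)
    (hprim : IsPreprimitive G α) (h4 : IsMultiplyPretransitive G₀ α 4)
    (hbot : ∀ x : Fin 4 ↪ α, stabilizer G₀ x = ⊥) (hcard : Nat.card G = 15840) : False := by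
  classical
  haveI : Fact (Nat.Prime 2) := ⟨Nat.prime_two⟩
  haveI : Fact (Nat.Prime 5) := ⟨by decide⟩
  haveI h4G : IsMultiplyPretransitive G α 4 := ⟨fun x y => by
    obtain ⟨g, hg⟩ := h4.exists_smul_eq x y
    exact ⟨⟨g, hle g.2⟩, hg⟩⟩
  obtain ⟨x₀⟩ : Nonempty (Fin 4 ↪ α) := Function.Embedding.nonempty_of_card_le (by simp [hα])
  have hst : ∀ x : Fin 4 ↪ α, Nat.card (stabilizer G x) = 2 := by
    intro x
    have h1 := @card_eq_mul_card_stabilizer G (Fin 4 ↪ α) _ _ h4G x
    rw [Nat.card_eq_fintype_card (α := Fin 4 ↪ α), Fintype.card_embedding_eq, Fintype.card_fin,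
      hα, hcard, show Nat.descFactorial 11 4 = 7920 from rfl] at h1
    omega
  obtain ⟨⟨t, htx⟩, ht⟩ := exists_prime_orderOf_dvd_card' (G := stabilizer G x₀) 2
    (dvd_of_eq (hst x₀).symm)
  rw [← Subgroup.orderOf_coe] at ht
  change orderOf t = 2 at ht
  have htG₀ : (t : Perm α) ∉ G₀ := fun h => by
    have h1 : (⟨t, h⟩ : G₀) ∈ stabilizer G₀ x₀ := htx
    rw [hbot, Subgroup.mem_bot] at h1
    have h2 : (t : Perm α) = 1 := congrArg Subtype.val h1
    rw [Subtype.ext h2 (a2 := (1 : G)), orderOf_one] at ht
    omega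
  have ht' : orderOf (t : Perm α) = 2 := by rw [Subgroup.orderOf_coe, ht]
  have htt : (t : Perm α) * t = 1 := by rw [← pow_two]; exact ht' ▸ pow_orderOf_eq_one _
  obtain ⟨m, hm, hms⟩ := exists_cycleType Nat.prime_two ht'
  have hs7 : (t : Perm α).support.card ≤ 7 := by
    have hsub : Finset.univ.map x₀ ⊆ (t : Perm α).supportᶜ := by
      intro u hu
      obtain ⟨i, -, rfl⟩ := Finset.mem_map.1 hu
      rw [Finset.mem_compl, Perm.notMem_support]
      exact DFunLike.congr_fun (mem_stabilizer_iff.1 htx) i
    have := Finset.card_le_card hsub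
    rw [Finset.card_map, Finset.card_univ, Fintype.card_fin, Finset.card_compl, hα] at this
    omega
  have h2G : IsMultiplyPretransitive G α 2 := isMultiplyPretransitive_of_le (n := 4) (by omega)
    (by rw [Nat.card_eq_fintype_card, hα]; norm_num)
  rcases m with - | - | - | m
  · -- a transposition
    refine hA ?_
    rw [subgroup_eq_top_of_isPreprimitive_of_isSwap_mem hprim (t : Perm α)
      (Perm.card_support_eq_two.1 hms) t.2]
    exact le_top
  · exact hA (alternatingGroup_le_of_double_transposition hα h2G t.2 htt hms)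
  · -- three transpositions: an element of order 5 centralizes `t`
    let F : Finset α := (t : Perm α).supportᶜ
    have hF : F.card = 5 := by rw [Finset.card_compl, hα, hms]
    have hCtrans : ∀ a ∈ F, ∀ b ∈ F, ∃ k : G, k * t = t * k ∧ k • a = b := by
      intro a ha b hb
      have hemb : ∀ u ∈ F, ∃ z : Fin 4 ↪ α, z 0 = u ∧ ∀ i, z i ∈ F := by
        intro u hu
        obtain ⟨s, hus, hsF, hs⟩ := Finset.exists_subsuperset_card_eq
          (Finset.singleton_subset_iff.2 hu) (n := 4) (by simp) (by omega)
        let e : Fin 4 ≃ s := (s.equivFinOfCardEq hs).symm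
        let e' : Fin 4 ≃ s := (Equiv.swap 0 (e.symm ⟨u, hus (Finset.mem_singleton_self u)⟩)).trans e
        refine ⟨e'.toEmbedding.trans (Function.Embedding.subtype _), ?_, fun i => hsF (e' i).2⟩
        change ((e' 0 : s) : α) = u
        simp [e']
      obtain ⟨za, hza, hzaF⟩ := hemb a ha
      obtain ⟨zb, hzb, hzbF⟩ := hemb b hb
      obtain ⟨k, hk⟩ := exists_smul_eq G za zb
      have hta : t ∈ stabilizer G za := by
        rw [mem_stabilizer_iff]
        ext i
        exact Perm.notMem_support.1 (Finset.mem_compl.1 (hzaF i))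
      have htb : t ∈ stabilizer G zb := by
        rw [mem_stabilizer_iff]
        ext i
        exact Perm.notMem_support.1 (Finset.mem_compl.1 (hzbF i))
      have hkt : k * t * k⁻¹ ∈ stabilizer G zb := by
        rw [mem_stabilizer_iff]
        ext i
        have e1 : k • za i = zb i := DFunLike.congr_fun hk i
        have e2 : t • za i = za i := DFunLike.congr_fun (mem_stabilizer_iff.1 hta) i
        change (k * t * k⁻¹) • zb i = zb i
        rw [← e1, mul_smul, mul_smul, inv_smul_smul, e2]
      refine ⟨k, ?_, by rw [← hza, ← hzb]; exact DFunLike.congr_fun hk 0⟩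
      have hone : ∀ u : stabilizer G zb, u ≠ 1 → u = ⟨t, htb⟩ := by
        intro u hu
        obtain ⟨p, q, hpq, hall⟩ := Nat.card_eq_two_iff.1 (hst zb)
        have hmem : ∀ w, w = p ∨ w = q := fun w => by
          have : w ∈ ({p, q} : Set _) := hall ▸ Set.mem_univ w
          exact this
        have ht1 : (⟨t, htb⟩ : stabilizer G zb) ≠ 1 := fun h => by
          rw [show t = 1 from congrArg Subtype.val h, orderOf_one] at ht
          omega
        rcases hmem u with h1 | h1 <;> rcases hmem ⟨t, htb⟩ with h2 | h2 <;>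
          rcases hmem 1 with h3 | h3
        all_goals first
          | exact h1.trans h2.symm
          | exact absurd (h1.trans h3.symm) hu
          | exact absurd (h2.trans h3.symm) ht1
      have := congrArg Subtype.val (hone ⟨_, hkt⟩ (fun h => by
        have h' : k * t * k⁻¹ = 1 := congrArg Subtype.val h
        rw [mul_inv_eq_one, mul_eq_left] at h'
        rw [h', orderOf_one] at ht
        omega))
      exact mul_inv_eq_iff_eq_mul.1 this
    obtain ⟨a, ha⟩ : F.Nonempty := Finset.card_pos.1 (by omega)
    let C : Subgroup G := Subgroup.centralizer ({t} : Set G)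
    have horb : orbit C a = ↑F := by
      refine Set.Subset.antisymm ?_ ?_
      · rintro _ ⟨k, rfl⟩
        rw [Finset.mem_coe, Finset.mem_compl, Perm.notMem_support]
        change t • (k : G) • a = (k : G) • a
        rw [smul_smul, ← Subgroup.mem_centralizer_singleton_iff.1 k.2, mul_smul]
        congr 1
        exact Perm.notMem_support.1 (Finset.mem_compl.1 ha)
      · intro b hb
        obtain ⟨k, hk, hkb⟩ := hCtrans a ha b hb
        exact ⟨⟨k, Subgroup.mem_centralizer_singleton_iff.2 hk⟩, hkb⟩
    have h5 : 5 ∣ Nat.card C := by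
      have h1 := card_orbit_mul_card_stabilizer (G := C) a
      rw [horb, Nat.card_coe_set_eq, Set.ncard_coe_finset, hF] at h1
      exact ⟨_, h1.symm⟩
    obtain ⟨⟨z, hzC⟩, hz⟩ := exists_prime_orderOf_dvd_card' 5 h5
    rw [← Subgroup.orderOf_coe] at hz
    change orderOf z = 5 at hz
    have hzt : (z : Perm α) * t = t * z :=
      congrArg Subtype.val (Subgroup.mem_centralizer_singleton_iff.1 hzC)
    have hz' : orderOf (z : Perm α) = 5 := by rw [Subgroup.orderOf_coe, hz]
    by_cases hfix : ∀ v ∈ (t : Perm α).support, (z : Perm α) v = v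
    · refine hA (alternatingGroup_le_of_prime_element hprim z.2 (q := 5) (by decide) hz' ?_
        (by omega))
      have hsub : (z : Perm α).support ⊆ F := fun v hv => by
        rw [Finset.mem_compl]
        exact fun h => Perm.mem_support.1 hv (hfix v h)
      have := Finset.card_le_card hsub
      omega
    push Not at hfix
    obtain ⟨v₀, hv₀, hv₀'⟩ := hfix
    -- `z` restricted to the six moved points of `t`
    have hinv : ∀ v, (z : Perm α) v ∈ (t : Perm α).support ↔ v ∈ (t : Perm α).support := by
      intro v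
      rw [Perm.mem_support, Perm.mem_support, ← Perm.mul_apply, ← hzt, Perm.mul_apply]
      exact (z : Perm α).injective.ne_iff
    let zS : Perm {v // v ∈ (t : Perm α).support} := (z : Perm α).subtypePerm hinv
    have hzS : zS ^ 5 = 1 := by
      refine Equiv.ext fun v => Subtype.ext ?_
      have h5' : (z : Perm α) ^ 5 = 1 := hz' ▸ pow_orderOf_eq_one _
      simp [zS, Perm.subtypePerm_pow, h5']
    obtain ⟨w, hw⟩ := Equiv.Perm.exists_fixed_point_of_prime (p := 5) (n := 1) (σ := zS)
      (by rw [Fintype.card_coe, hms]; decide) (by rw [pow_one]; exact hzS)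
    have hw' : (z : Perm α) w = w := congrArg Subtype.val hw
    have htw : (z : Perm α) ((t : Perm α) w) = (t : Perm α) w := by
      rw [← Perm.mul_apply, hzt, Perm.mul_apply, hw']
    -- two fixed points in the six force five moved points among the other four
    have horder : orderOf zS = 5 := orderOf_eq_prime hzS fun h => hv₀' (by
      have := Equiv.congr_fun h ⟨v₀, hv₀⟩
      exact congrArg Subtype.val this)
    obtain ⟨r, hr, hrs⟩ := exists_cycleType (by decide : Nat.Prime 5) horder
    have hsub : zS.support ⊆ (Finset.univ.erase w).erase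
        ⟨(t : Perm α) w, Perm.apply_mem_support.2 w.2⟩ := by
      intro v hv
      rw [Perm.mem_support] at hv
      simp only [Finset.mem_erase, Finset.mem_univ, and_true]
      exact ⟨fun h => hv (h ▸ Subtype.ext htw), fun h => hv (h ▸ hw)⟩
    have := Finset.card_le_card hsub
    rw [Finset.card_erase_of_mem (Finset.mem_erase.2 ⟨fun h => Perm.mem_support.1 w.2
      (congrArg Subtype.val h), Finset.mem_univ _⟩), Finset.card_erase_of_mem (Finset.mem_univ _),
      Finset.card_univ, Fintype.card_coe, hms, hrs] at this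
    omega
  · omega

/-- Transitive groups of degree 11. -/
theorem classify (hα : Fintype.card α = 11) (G : Subgroup (Perm α)) [IsPretransitive G α]
    (hG : ¬ Group.IsSolvable G) (hA : ¬ alternatingGroup α ≤ G) :
    (Nat.card G = 660 ∧ IsSimpleGroup G) ∨
      (IsMultiplyPretransitive G α 4 ∧ ∀ x : Fin 4 ↪ α, stabilizer G x = ⊥) := by
  obtain ⟨G₀, hle, hleA, htr, hs, hor⟩ := alternating_part (p := 11) (by decide) hα G hG
  haveI := htr
  have hA₀ : ¬ alternatingGroup α ≤ G₀ := fun h => hA (h.trans hle)
  have h2₀ := two_pretransitive_of_not_solvable hα hs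
  have hprim : IsPreprimitive G α :=
    isPreprimitive_of_is_two_pretransitive (two_pretransitive_of_not_solvable hα hG)
  have hcases := even_part_card hα G₀ hs hleA hA₀
  have heq : G₀ = G := by
    refine hor.resolve_right fun h => ?_
    obtain ⟨P⟩ : Nonempty (Sylow 11 G) := inferInstance
    obtain ⟨n, d, hN, hd, hd1, hn11, hn1, hc, -, -⟩ := card_data hα G hG P
    have hd' := Nat.le_of_dvd (by decide) hd
    rw [h] at hc
    have heven : Even (Nat.card (Subgroup.normalizer ((P : Subgroup G) : Set G))) := by
      rw [hN, Nat.even_iff]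
      rcases hcases with e | e <;> rw [e] at hc <;> interval_cases d <;> omega
    rcases hcases with e | e
    · obtain ⟨e', σ, t, he, -, ht, ht1, hte⟩ :=
        exists_coords_of_even_normalizer (by decide) hα P heven
      have h3 := three_pretransitive_of_reflection hα hG e' he ht ht1 hte
      haveI : Nonempty (Fin 3 ↪ α) := Function.Embedding.nonempty_of_card_le (by simp [hα])
      have h4 := @card_dvd_card G (Fin 3 ↪ α) _ _ h3 _
      rw [h, e, Nat.card_eq_fintype_card, Fintype.card_embedding_eq, Fintype.card_fin, hα] at h4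
      exact absurd h4 (by decide)
    · obtain ⟨h4, hbot⟩ := sharply_four_of_card hα h2₀ hleA hA₀ e
      exact no_double_order hα G G₀ hA hle hprim h4 hbot (by rw [h, e])
  subst heq
  rcases hcases with e | e
  · refine Or.inl ⟨e, ?_⟩
    haveI : Nonempty α := by rw [← Fintype.card_pos_iff, hα]; norm_num
    refine Sharply.isSimpleGroup_of_normalizer_card (p := 11) (q := 5) (by decide) (by decide)
      (by rw [e]; decide) (by rw [e]; decide) (fun N hN hNb => ?_) fun P => ?_
    · haveI := hN
      haveI := hprim
      haveI := isPretransitive_of_normal_ne_bot (α := α) hNb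
      rw [← hα, ← Nat.card_eq_fintype_card]
      exact card_dvd_card
    · obtain ⟨n, d, hN, hd, hd1, hn11, hn1, hc, -, -⟩ := card_data hα G₀ hG P
      rw [e] at hc
      have hd' := Nat.le_of_dvd (by decide) hd
      have hd5 : d = 5 := by interval_cases d <;> omega
      rw [hN, hd5]
  · exact Or.inr (sharply_four_of_card hα h2₀ hleA hA₀ e)

end Cfsg.Agent.PermLib.Eleven
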