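import Cfsg.Agent.Perm.ElevenBasic
import Mathlib.Data.Fintype.CardEmbedding

/-!
Transitive groups of degree 11 and order 7920 are sharply 4-transitive.
-/

namespace Cfsg.Agent.PermLib.Eleven

open MulAction Equiv Equiv.Perm
open scoped Pointwise

variable {α : Type*} [Fintype α] [DecidableEq α] {G : Subgroup (Perm α)}

/-- The number of moved points of an element of prime order. -/
theorem exists_cycleType {x : Perm α} {q : ℕ} (hq : q.Prime) (hx : orderOf x = q) :
    ∃ m, x.cycleType = Multiset.replicate (m + 1) q ∧ x.support.card = (m + 1) * q := by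
  obtain ⟨m, hm⟩ := Perm.cycleType_prime_order (σ := x) (by rwa [hx])
  rw [hx] at hm
  exact ⟨m, hm, by rw [← Perm.sum_cycleType, hm, Multiset.sum_replicate, smul_eq_mul]⟩

theorem sign_of_prime_order_two {x : Perm α} {m : ℕ}
    (hm : x.cycleType = Multiset.replicate (m + 1) 2) : Perm.sign x = (-1) ^ (m + 1) := by
  rw [Perm.sign_of_cycleType, hm, Multiset.sum_replicate, Multiset.card_replicate, smul_eq_mul,
    pow_add, pow_mul', neg_one_sq, one_pow, one_mul]

/-- In a 2-transitive group of order 7920 and degree 11 without alternating group there is no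
element consisting of two 3-cycles. -/
theorem no_six_support (hα : Fintype.card α = 11) (h2 : IsMultiplyPretransitive G α 2)
    (hA : ¬ alternatingGroup α ≤ G) (hcard : Nat.card G = 7920) {x : G}
    (hx : orderOf x = 3) (hsupp : (x : Perm α).support.card = 6) : False := by
  classical
  haveI : Fact (Nat.Prime 3) := ⟨Nat.prime_three⟩
  haveI : IsPretransitive G α := isPretransitive_of_is_two_pretransitive
  have hprim : IsPreprimitive G α := isPreprimitive_of_is_two_pretransitive h2
  have hfix5 : (x : Perm α).supportᶜ.card = 5 := by rw [Finset.card_compl]; omega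
  obtain ⟨c, hc, d, hd, hcd⟩ := Finset.one_lt_card.1 (show 1 < (x : Perm α).supportᶜ.card by omega)
  rw [Finset.mem_compl, Perm.notMem_support] at hc hd
  let H : Subgroup G := stabilizer G ((c, d) : α × α)
  let L : Subgroup G := stabilizer G c
  have hH : Nat.card H = 72 := by
    have h1 := card_orbit_mul_card_stabilizer (G := G) ((c, d) : α × α)
    have e : orbit G ((c, d) : α × α) = ↑((Finset.univ : Finset α).offDiag) := by
      ext ⟨u, v⟩
      rw [Finset.mem_coe, Finset.mem_offDiag]
      constructor
      · rintro ⟨g, hg⟩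
        rw [Prod.ext_iff] at hg
        exact ⟨Finset.mem_univ _, Finset.mem_univ _, fun e => hcd (MulAction.injective g
          (hg.1.trans (e.trans hg.2.symm)))⟩
      · rintro ⟨-, -, huv⟩
        obtain ⟨g, hg, hg'⟩ := is_two_pretransitive_iff.1 h2 hcd huv
        exact ⟨g, Prod.ext hg hg'⟩
    rw [e, Nat.card_coe_set_eq, Set.ncard_coe_finset, Finset.offDiag_card, Finset.card_univ, hα,
      hcard] at h1
    have : Nat.card H = Nat.card (stabilizer G ((c, d) : α × α)) := rfl
    rw [show (11 * 11 - 11 : ℕ) = 110 from rfl] at h1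
    omega
  have hL : Nat.card L = 720 := by
    have h1 := card_eq_mul_card_stabilizer (G := G) c
    rw [Nat.card_eq_fintype_card (α := α), hα, hcard] at h1
    have : Nat.card L = Nat.card (stabilizer G c) := rfl
    omega
  have hHfix : ∀ h ∈ H, h • c = c ∧ h • d = d := fun h hh => Prod.ext_iff.1 hh
  have hxH : x ∈ H := Prod.ext hc hd
  obtain ⟨Q, hQle⟩ := (IsPGroup.of_card (n := 1)
    (show Nat.card (Subgroup.zpowers (⟨x, hxH⟩ : H)) = 3 ^ 1 by
      rw [Nat.card_zpowers, ← Subgroup.orderOf_coe, hx, pow_one])).exists_le_sylow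
  have hxQ : (⟨x, hxH⟩ : H) ∈ (Q : Subgroup H) := hQle (Subgroup.mem_zpowers _)
  have hQ : Nat.card (Q : Subgroup H) = 9 := by
    rw [Q.card_eq_multiplicity, hH, show (72 : ℕ) = 3 ^ 2 * 8 from rfl,
      Nat.factorization_mul (by norm_num) (by norm_num), Finsupp.add_apply,
      Nat.Prime.factorization_pow Nat.prime_three, Finsupp.single_eq_same,
      Nat.factorization_eq_zero_of_not_dvd (by decide : ¬ 3 ∣ 8)]
    norm_num
  have hQp : IsPGroup 3 (Q : Subgroup H) := Q.isPGroup'
  have hcomm := IsPGroup.isMulCommutative_of_card_eq_prime_sq (p := 3) (G := (Q : Subgroup H))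
    (by rw [hQ]; rfl)
  -- small elements
  have hno3 : ∀ y : G, y ≠ 1 → y ^ 3 = 1 → (y : Perm α).support.card ≤ 6 →
      (y : Perm α).support.card = 6 := by
    intro y hy1 hy3 hle
    have hy : orderOf (y : Perm α) = 3 :=
      orderOf_eq_prime (by rw [← SubmonoidClass.coe_pow, hy3]; rfl)
        (fun e => hy1 (Subtype.ext e))
    obtain ⟨m, hm, hms⟩ := exists_cycleType Nat.prime_three hy
    rcases m with - | - | m
    · exact absurd (alternatingGroup_le_of_isPreprimitive_of_isThreeCycle_mem hprim
        (g := (y : Perm α)) (card_support_eq_three_iff.1 hms) y.2) hA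
    · exact hms
    · rw [hms] at hle; omega
  have hQ3 : ∀ q : (Q : Subgroup H), orderOf q ∣ 9 := fun q => hQ ▸ orderOf_dvd_natCard q
  -- Q-orbits outside `c`, `d` have three points
  have horbQ : ∀ w : α, Nat.card (orbit (Q : Subgroup H) w) ≤ 3 := by
    intro w
    by_contra hlt
    obtain ⟨k, hk⟩ := hQp.card_orbit w
    have hmul := card_orbit_mul_card_stabilizer (G := (Q : Subgroup H)) w
    rw [hk, hQ] at hmul
    have hk2 : 2 ≤ k := by
      by_contra h
      interval_cases k <;> simp_all
    have h9 : Nat.card (orbit (Q : Subgroup H) w) = 9 := by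
      have h1 : 3 ^ 2 ≤ 3 ^ k := Nat.pow_le_pow_right (by norm_num) hk2
      have h2' : 3 ^ k ∣ 9 := Dvd.intro _ hmul
      have := Nat.le_of_dvd (by norm_num) h2'
      rw [hk]; norm_num at h1; omega
    -- then `x` moves every point of that orbit
    have hsub : orbit (Q : Subgroup H) w ⊆ (↑(x : Perm α).support : Set α) := by
      rintro u ⟨q, rfl⟩
      rw [Finset.mem_coe, Perm.mem_support]
      intro hfix
      have h1 : (⟨⟨x, hxH⟩, hxQ⟩ : (Q : Subgroup H)) ∈ stabilizer (Q : Subgroup H) (q • w) := hfix
      have horb : orbit (Q : Subgroup H) (q • w) = orbit (Q : Subgroup H) w := orbit_smul q w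
      have h3 := card_orbit_mul_card_stabilizer (G := (Q : Subgroup H)) (q • w)
      rw [horb, h9, hQ] at h3
      have h4 : stabilizer (Q : Subgroup H) (q • w) = ⊥ := Subgroup.eq_bot_of_card_eq _ (by omega)
      rw [h4, Subgroup.mem_bot] at h1
      have h5 : x = 1 := congrArg (fun z : (Q : Subgroup H) => ((z : H) : G)) h1
      rw [h5, orderOf_one] at hx
      omega
    have := Set.ncard_le_ncard hsub (Set.toFinite _)
    rw [← Nat.card_coe_set_eq, h9, Set.ncard_coe_finset, hsupp] at this
    omega
  -- a non-trivial element fixing a Q-orbit pointwise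
  have hker : ∀ w : α, ∃ y : (Q : Subgroup H), y ≠ 1 ∧ ((y : H) : G) ^ 3 = 1 ∧
      ∀ u ∈ orbit (Q : Subgroup H) w, ((y : H) : G) • u = u := by
    intro w
    have hmul := card_orbit_mul_card_stabilizer (G := (Q : Subgroup H)) w
    rw [hQ] at hmul
    have hst : 3 ∣ Nat.card (stabilizer (Q : Subgroup H) w) := by
      have h1 := horbQ w
      have hpos : 0 < Nat.card (orbit (Q : Subgroup H) w) := by
        haveI : Nonempty (orbit (Q : Subgroup H) w) := ⟨⟨w, mem_orbit_self w⟩⟩
        exact Nat.card_pos
      interval_cases h : Nat.card (orbit (Q : Subgroup H) w) <;> omega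
    obtain ⟨⟨y, hy⟩, hyo⟩ := exists_prime_orderOf_dvd_card' 3 hst
    rw [← Subgroup.orderOf_coe] at hyo
    change orderOf y = 3 at hyo
    refine ⟨y, fun e => by rw [e, orderOf_one] at hyo; omega, ?_, ?_⟩
    · have := pow_orderOf_eq_one y
      rw [hyo] at this
      exact congrArg (fun z : (Q : Subgroup H) => ((z : H) : G)) this
    · rintro _ ⟨q, rfl⟩
      change y • q • w = q • w
      rw [smul_smul, hcomm.is_comm.comm, mul_smul, mem_stabilizer_iff.1 hy]
  have hQfix : ∀ w : α, (∀ q : (Q : Subgroup H), q • w = w) → w = c ∨ w = d := by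
    intro w hw
    by_contra hne
    push Not at hne
    let Fx : Finset α := Finset.univ.filter fun u => ∀ q : (Q : Subgroup H), q • u = u
    have hfx3 : 3 ≤ Fx.card := by
      have hsub : ({c, d, w} : Finset α) ⊆ Fx := by
        intro u hu
        simp only [Finset.mem_insert, Finset.mem_singleton] at hu
        rw [Finset.mem_filter]
        refine ⟨Finset.mem_univ _, fun q => ?_⟩
        rcases hu with rfl | rfl | rfl
        exacts [(hHfix _ (q : H).2).1, (hHfix _ (q : H).2).2, hw q]
      refine le_trans ?_ (Finset.card_le_card hsub)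
      rw [Finset.card_insert_of_notMem (by simp [hcd, hne.1.symm]),
        Finset.card_pair hne.2.symm]
    have hmod := hQp.card_modEq_card_fixedPoints α
    have hfx : Nat.card (fixedPoints (Q : Subgroup H) α) = Fx.card := by
      rw [Nat.card_coe_set_eq, ← Set.ncard_coe_finset]
      congr 1
      ext u
      simp [Fx]
    rw [hfx, Nat.card_eq_fintype_card, hα] at hmod
    have hfx5 : 5 ≤ Fx.card := by rw [Nat.ModEq] at hmod; omega
    obtain ⟨u, hu⟩ : ∃ u, u ∉ Fx := by
      by_contra hall
      push Not at hall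
      obtain ⟨y, hy1, -, -⟩ := hker c
      refine hy1 (Subtype.ext (Subtype.ext (Subtype.ext (Equiv.ext fun u => ?_))))
      exact (Finset.mem_filter.1 (hall u)).2 y
    obtain ⟨y, hy1, hy3, hyfix⟩ := hker u
    have hdisj : Disjoint ((y : H) : G).1.support (Fx ∪ (orbit (Q : Subgroup H) u).toFinset) := by
      refine Finset.disjoint_left.2 fun v hv hv' => ?_
      rw [Perm.mem_support] at hv
      rw [Finset.mem_union, Set.mem_toFinset, Finset.mem_filter] at hv'
      rcases hv' with h | h
      · exact hv (h.2 y)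
      · exact hv (hyfix v h)
    have hdisj2 : Disjoint Fx (orbit (Q : Subgroup H) u).toFinset := by
      refine Finset.disjoint_left.2 fun v hv hv' => hu ?_
      rw [Set.mem_toFinset] at hv'
      obtain ⟨q, rfl⟩ := hv'
      rw [Finset.mem_filter] at hv ⊢
      refine ⟨Finset.mem_univ _, fun q' => ?_⟩
      have h1 := hv.2 (q' : (Q : Subgroup H))
      have h2' := hv.2 q⁻¹
      rw [inv_smul_smul] at h2'
      have e1 : (q : (Q : Subgroup H)) • u = u := h2'.symm
      have e2 : q' • q • u = q • u := h1
      rwa [e1] at e2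
    have hu1 : 2 ≤ (orbit (Q : Subgroup H) u).toFinset.card := by
      rw [Finset.mem_filter] at hu
      push Not at hu
      obtain ⟨q, hq⟩ := hu (Finset.mem_univ u)
      exact Finset.one_lt_card.2 ⟨q • u, Set.mem_toFinset.2 (mem_orbit u q), u,
        Set.mem_toFinset.2 (mem_orbit_self u), hq⟩
    have htot := Finset.card_le_univ
      (((y : H) : G).1.support ∪ (Fx ∪ (orbit (Q : Subgroup H) u).toFinset))
    rw [Finset.card_union_of_disjoint hdisj, Finset.card_union_of_disjoint hdisj2, hα] at htot
    have h6 := hno3 _ (fun e => hy1 (Subtype.ext (Subtype.ext e))) hy3 (by omega)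
    omega
  -- the orbits of `H` away from `c`, `d` have 3 or 6 points
  have horbH : ∀ w : α, w ≠ c → w ≠ d → (orbit H w).ncard = 3 ∨ (orbit H w).ncard = 6 := by
    intro w hwc hwd
    have hmul := card_orbit_mul_card_stabilizer (G := H) w
    rw [hH, Nat.card_coe_set_eq] at hmul
    have hsub : orbit H w ⊆ ({c, d} : Set α)ᶜ := by
      rintro _ ⟨h, rfl⟩ hm
      rcases hm with e | e
      · exact hwc (MulAction.injective (h : G) (e.trans (hHfix h h.2).1.symm))
      · exact hwd (MulAction.injective (h : G) (e.trans (hHfix h h.2).2.symm))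
    have hle : (orbit H w).ncard ≤ 9 := by
      refine (Set.ncard_le_ncard hsub (Set.toFinite _)).trans ?_
      rw [Set.ncard_compl, Set.ncard_pair hcd, Nat.card_eq_fintype_card, hα]
    have h3 : 3 ∣ (orbit H w).ncard := by
      have hmod := hQp.card_modEq_card_fixedPoints (orbit H w)
      have h0 : Nat.card (fixedPoints (Q : Subgroup H) (orbit H w)) = 0 := by
        rw [Nat.card_eq_zero]
        left
        refine ⟨fun ⟨⟨v, hv⟩, hfix⟩ => ?_⟩
        rcases hQfix v (fun q => congrArg Subtype.val (hfix q)) with e | e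
        · exact hsub hv (Or.inl e)
        · exact hsub hv (Or.inr e)
      rw [h0, Nat.card_coe_set_eq] at hmod
      exact Nat.modEq_zero_iff_dvd.1 hmod
    have h9 : (orbit H w).ncard ≠ 9 := by
      intro h9
      have hst : Nat.card (stabilizer H w) = 8 := by rw [h9] at hmul; omega
      have hbot : stabilizer (Q : Subgroup H) w = ⊥ := by
        refine Subgroup.eq_bot_of_card_eq _ ?_
        let φ : stabilizer (Q : Subgroup H) w →* stabilizer H w :=
          { toFun := fun z => ⟨((z : (Q : Subgroup H)) : H), z.2⟩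
            map_one' := rfl
            map_mul' := fun _ _ => rfl }
        have h1 := Subgroup.card_dvd_of_injective φ fun u v e =>
          Subtype.ext (Subtype.ext (congrArg (fun z : stabilizer H w => (z : H)) e))
        have h2' := Subgroup.card_subgroup_dvd_card (stabilizer (Q : Subgroup H) w)
        rw [hst] at h1
        rw [hQ] at h2'
        exact Nat.dvd_one.1 ((show Nat.gcd 8 9 = 1 from rfl) ▸ Nat.dvd_gcd h1 h2')
      have h4 := card_orbit_mul_card_stabilizer (G := (Q : Subgroup H)) w
      rw [hbot, Subgroup.card_bot, mul_one, hQ] at h4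
      have := horbQ w
      omega
    have hpos : 0 < (orbit H w).ncard := (Set.ncard_pos).2 (nonempty_orbit w)
    interval_cases (orbit H w).ncard <;> omega
  -- a self-paired orbit of length 3
  have hLtr : ∀ u v : α, u ≠ c → v ≠ c → ∃ k ∈ L, k • u = v :=
    fun u v hu hv => (two_pretransitive_iff_stabilizer c).1 h2 u v hu hv
  obtain ⟨e, hec, hed, he3, g₀, hg₀, hg₀d, hg₀e⟩ : ∃ e, e ≠ c ∧ e ≠ d ∧
      (orbit H e).ncard = 3 ∧ ∃ g ∈ L, g • d = e ∧ g • e = d := by
    haveI : Fact (Nat.Prime 2) := ⟨Nat.prime_two⟩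
    obtain ⟨t, ht, u, hu⟩ := exists_involution_moving (G := L) (α := α) (by rw [hL]; norm_num)
    have huc : u ≠ c := by
      rintro rfl
      exact hu t.2
    obtain ⟨k, hk, hku⟩ := hLtr u d huc hcd.symm
    let e₀ := k • ((t : G) • u)
    let s : G := k * t * k⁻¹
    have hsL : s ∈ L := L.mul_mem (L.mul_mem hk t.2) (L.inv_mem hk)
    have hsd : s • d = e₀ := by
      rw [← hku]
      simp only [s, e₀, mul_smul, inv_smul_smul]
    have hse : s • e₀ = d := by
      rw [← hku]
      simp only [s, e₀, mul_smul, inv_smul_smul]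
      congr 1
      rw [smul_smul]
      exact (congrArg (fun z : L => (z : G) • u) ht).trans (one_smul G u)
    have he₀d : e₀ ≠ d := fun h => hu (MulAction.injective k (h.trans hku.symm))
    have he₀c : e₀ ≠ c := fun h => hcd.symm (MulAction.injective s
      (hsd.trans (h.trans (mem_stabilizer_iff.1 hsL).symm)))
    rcases horbH e₀ he₀c he₀d with h | h
    · exact ⟨e₀, he₀c, he₀d, h, s, hsL, hsd, hse⟩
    obtain ⟨w, hw, hwO⟩ := Set.exists_mem_notMem_of_ncard_lt_ncard
      (show (orbit H e₀).ncard < (({c, d} : Set α)ᶜ).ncard by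
        rw [h, Set.ncard_compl, Set.ncard_pair hcd, Nat.card_eq_fintype_card, hα]; norm_num)
      (Set.toFinite _)
    simp only [Set.mem_compl_iff, Set.mem_insert_iff, Set.mem_singleton_iff, not_or] at hw
    obtain ⟨g, hgL, hgd⟩ := hLtr d w hcd.symm hw.1
    let e₁ := g⁻¹ • d
    have he₁c : e₁ ≠ c := fun h' => hcd.symm (by
      rw [inv_smul_eq_iff] at h'
      exact h'.trans (mem_stabilizer_iff.1 hgL))
    have he₁d : e₁ ≠ d := fun h' => hw.2 (by
      rw [inv_smul_eq_iff, hgd] at h'
      exact h'.symm)
    have hsubO : ∀ z : α, z ≠ c → z ≠ d → orbit H z ⊆ ({c, d} : Set α)ᶜ := by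
      rintro z hzc hzd _ ⟨q, rfl⟩ hm
      rcases hm with e' | e'
      · exact hzc (MulAction.injective (q : G) (e'.trans (hHfix q q.2).1.symm))
      · exact hzd (MulAction.injective (q : G) (e'.trans (hHfix q q.2).2.symm))
    have hR : (({c, d} : Set α)ᶜ).ncard = 9 := by
      rw [Set.ncard_compl, Set.ncard_pair hcd, Nat.card_eq_fintype_card, hα]
    have hdis : ∀ z : α, z ∉ orbit H e₀ → Disjoint (orbit H e₀) (orbit H z) := fun z hz =>
      (orbit.eq_or_disjoint e₀ z).resolve_left fun e' => hz (e' ▸ mem_orbit_self z)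
    have hw3 : (orbit H w).ncard = 3 := by
      have hsum := Set.ncard_union_eq (hdis w hwO) (Set.toFinite _) (Set.toFinite _)
      have hle := Set.ncard_le_ncard
        (Set.union_subset (hsubO e₀ he₀c he₀d) (hsubO w hw.1 hw.2)) (Set.toFinite _)
      rcases horbH w hw.1 hw.2 with h' | h' <;> omega
    have hstab : Nat.card (stabilizer H e₁) = Nat.card (stabilizer H w) := by
      refine Nat.card_congr
        { toFun := fun z => ⟨⟨g * (z : H) * g⁻¹, ?_⟩, ?_⟩
          invFun := fun z => ⟨⟨g⁻¹ * (z : H) * g, ?_⟩, ?_⟩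
          left_inv := fun z => Subtype.ext (Subtype.ext (by simp [mul_assoc]))
          right_inv := fun z => Subtype.ext (Subtype.ext (by simp [mul_assoc])) }
      · refine Prod.ext ?_ ?_
        · change (g * (z : H) * g⁻¹) • c = c
          rw [mul_smul, mul_smul, mem_stabilizer_iff.1 (inv_mem hgL), (hHfix _ (z : H).2).1,
            mem_stabilizer_iff.1 hgL]
        · change (g * (z : H) * g⁻¹) • d = d
          rw [mul_smul, mul_smul, show ((z : H) : G) • (g⁻¹ • d) = g⁻¹ • d from z.2,
            smul_inv_smul]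
      · change (g * (z : H) * g⁻¹) • w = w
        rw [← hgd, mul_smul, mul_smul, inv_smul_smul, (hHfix _ (z : H).2).2]
      · refine Prod.ext ?_ ?_
        · change (g⁻¹ * (z : H) * g) • c = c
          rw [mul_smul, mul_smul, mem_stabilizer_iff.1 hgL, (hHfix _ (z : H).2).1,
            mem_stabilizer_iff.1 (inv_mem hgL)]
        · change (g⁻¹ * (z : H) * g) • d = d
          rw [mul_smul, mul_smul, hgd, show ((z : H) : G) • w = w from z.2, ← hgd, inv_smul_smul]
      · change (g⁻¹ * (z : H) * g) • (g⁻¹ • d) = g⁻¹ • d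
        rw [mul_smul, mul_smul, smul_inv_smul, (hHfix _ (z : H).2).2]
    have he₁3 : (orbit H e₁).ncard = 3 := by
      have a1 := card_orbit_mul_card_stabilizer (G := H) e₁
      have a2 := card_orbit_mul_card_stabilizer (G := H) w
      rw [hstab, ← a2, Nat.card_coe_set_eq, Nat.card_coe_set_eq, hw3] at a1
      exact Nat.eq_of_mul_eq_mul_right Nat.card_pos a1
    have he₁O : e₁ ∉ orbit H e₀ := fun hm => by
      rw [orbit_eq_iff.2 hm, h] at he₁3
      omega
    have hwe : orbit H e₁ = orbit H w := by
      by_contra hne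
      have hd2 : Disjoint (orbit H w) (orbit H e₁) :=
        (orbit.eq_or_disjoint w e₁).resolve_left (Ne.symm hne)
      have hd3 := Disjoint.union_left (hdis e₁ he₁O) hd2
      have hsum := Set.ncard_union_eq hd3 (Set.toFinite _) (Set.toFinite _)
      have hsum' := Set.ncard_union_eq (hdis w hwO) (Set.toFinite _) (Set.toFinite _)
      have hle := Set.ncard_le_ncard (Set.union_subset
        (Set.union_subset (hsubO e₀ he₀c he₀d) (hsubO w hw.1 hw.2)) (hsubO e₁ he₁c he₁d))
        (Set.toFinite _)
      omega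
    obtain ⟨q, hq⟩ : w ∈ orbit H e₁ := hwe ▸ mem_orbit_self w
    have hq' : (q : G)⁻¹ • w = e₁ := inv_smul_eq_iff.2 hq.symm
    refine ⟨w, hw.1, hw.2, hw3, g * (q : G)⁻¹, L.mul_mem hgL (L.inv_mem (hHfix q q.2).1), ?_, ?_⟩
    · rw [mul_smul, inv_smul_eq_iff.2 (hHfix q q.2).2.symm, hgd]
    · rw [mul_smul, hq']
      exact smul_inv_smul g d
  -- an element fixing exactly five points
  let Δ : Finset α := (orbit H e).toFinset
  have hΔ : ∀ u, u ∈ Δ ↔ u ∈ orbit H e := fun u => Set.mem_toFinset
  have hΔc : c ∉ Δ := by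
    rw [hΔ]; rintro ⟨h, hh⟩
    exact hec (MulAction.injective (h : G) (hh.trans (hHfix h h.2).1.symm))
  have hΔd : d ∉ Δ := by
    rw [hΔ]; rintro ⟨h, hh⟩
    exact hed (MulAction.injective (h : G) (hh.trans (hHfix h h.2).2.symm))
  have hΔcard : Δ.card = 3 := by rw [← Set.ncard_eq_toFinset_card', he3]
  obtain ⟨y, hy1, hy3, hyfix⟩ := hker e
  let Y : G := ((y : H) : G)
  have hyΔ : ∀ u ∈ Δ, Y • u = u := by
    intro u hu
    have hsub : orbit (Q : Subgroup H) e ⊆ orbit H e := by
      rintro _ ⟨q, rfl⟩
      exact mem_orbit e (q : H)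
    have hcard3 : (orbit (Q : Subgroup H) e).ncard = 3 := by
      obtain ⟨k, hk⟩ := hQp.card_orbit e
      have h1 := horbQ e
      rw [← Nat.card_coe_set_eq, hk]
      rw [hk] at h1
      rcases k with - | - | k
      · exfalso
        rw [pow_zero, Nat.card_eq_one_iff_unique] at hk
        haveI := hk.1
        rcases hQfix e (fun q => congrArg Subtype.val (Subsingleton.elim
          (⟨q • e, mem_orbit e q⟩ : orbit (Q : Subgroup H) e) ⟨e, mem_orbit_self e⟩)) with h | h
        exacts [hec h, hed h]
      · rfl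
      · exfalso
        have : 3 ^ 2 ≤ 3 ^ (k + 2) := Nat.pow_le_pow_right (by norm_num) (by omega)
        have e9 : 9 ≤ 3 ^ (k + 2) := this
        rw [show k + 1 + 1 = k + 2 from rfl] at h1
        omega
    have heq := Set.eq_of_subset_of_ncard_le hsub (by omega) (Set.toFinite _)
    exact hyfix u (heq ▸ (hΔ u).1 hu)
  have hfixY : ∀ u, Y • u = u → u = c ∨ u ∈ insert d Δ := by
    have h5 : insert c (insert d Δ) ⊆ (Y : Perm α).supportᶜ := by
      intro u hu
      rw [Finset.mem_compl, Perm.notMem_support]
      simp only [Finset.mem_insert] at hu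
      rcases hu with rfl | rfl | hu
      exacts [(hHfix _ (y : H).2).1, (hHfix _ (y : H).2).2, hyΔ u hu]
    have hins : (insert c (insert d Δ)).card = 5 := by
      rw [Finset.card_insert_of_notMem (by simp [hcd, hΔc]), Finset.card_insert_of_notMem hΔd,
        hΔcard]
    have hle := Finset.card_le_card h5
    rw [hins, Finset.card_compl, hα] at hle
    have h6 := hno3 Y (fun e' => hy1 (Subtype.ext (Subtype.ext e'))) hy3 (by omega)
    have heq := Finset.eq_of_subset_of_card_le h5 (by rw [hins, Finset.card_compl, hα, h6])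
    intro u hu
    have : u ∈ (Y : Perm α).supportᶜ := Finset.mem_compl.2 (Perm.notMem_support.2 hu)
    rw [← heq, Finset.mem_insert] at this
    exact this
  -- `D` is a block of the stabilizer of `c`
  let D : Finset α := insert d Δ
  have hDcard : D.card = 4 := by rw [Finset.card_insert_of_notMem hΔd, hΔcard]
  have hHΔ : ∀ h ∈ H, h • Δ = Δ := by
    intro h hh
    refine Finset.eq_of_subset_of_card_le ?_ (Finset.card_smul_finset h Δ).ge
    intro u hu
    obtain ⟨v, hv, rfl⟩ := Finset.mem_smul_finset.1 hu
    rw [hΔ] at hv ⊢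
    rw [← orbit_eq_iff.2 hv]
    exact mem_orbit v (⟨h, hh⟩ : H)
  have hHD : ∀ h ∈ H, h • D = D := fun h hh => by
    simp only [D, Finset.smul_finset_insert, (hHfix h hh).2, hHΔ h hh]
  have hblock : ∀ k ∈ L, k • d ∈ D → k • D = D := by
    intro k hk hkd
    rcases Finset.mem_insert.1 hkd with h | h
    · exact hHD k (Prod.ext hk h)
    obtain ⟨q, hq⟩ := (hΔ _).1 h
    let k' : G := (q : G) * g₀
    have hk'L : k' ∈ L := L.mul_mem (hHfix q q.2).1 hg₀
    have hk'd : k' • d = k • d := by rw [mul_smul, hg₀d]; exact hq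
    have hk'e : k' • e = d := by rw [mul_smul, hg₀e]; exact (hHfix q q.2).2
    have hkH : k'⁻¹ * k ∈ H := Prod.ext
      (show (k'⁻¹ * k) • c = c from mem_stabilizer_iff.1 (L.mul_mem (L.inv_mem hk'L) hk))
      (show (k'⁻¹ * k) • d = d by rw [mul_smul, ← hk'd, inv_smul_smul])
    have hkD : k • D = k' • D := by
      conv_rhs => rw [← hHD _ hkH, smul_smul, mul_inv_cancel_left]
    rw [hkD]
    refine Finset.eq_of_subset_of_card_le ?_ (Finset.card_smul_finset k' D).ge
    have hYZ : Y • (k' • Δ) = k' • Δ := by
      have hmem : k'⁻¹ * Y * k' ∈ H := by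
        refine Prod.ext ?_ ?_
        · change (k'⁻¹ * Y * k') • c = c
          rw [mul_smul, mul_smul, mem_stabilizer_iff.1 hk'L, (hHfix _ (y : H).2).1,
            mem_stabilizer_iff.1 (inv_mem hk'L)]
        · change (k'⁻¹ * Y * k') • d = d
          rw [mul_smul, mul_smul, hk'd, hyΔ _ h, ← hk'd, inv_smul_smul]
      have := hHΔ _ hmem
      rw [mul_smul, mul_smul, inv_smul_eq_iff] at this
      exact this
    have hdZ : d ∈ k' • Δ := by
      rw [← hk'e]
      exact Finset.smul_mem_smul_finset ((hΔ e).2 (mem_orbit_self e))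
    have hY3 : ∀ u : α, Y • Y • Y • u = u := by
      intro u
      rw [smul_smul, smul_smul]
      have : Y * Y * Y = 1 := by rw [← hy3, pow_succ, pow_two]
      rw [this, one_smul]
    have hZfix : ∀ u ∈ k' • Δ, Y • u = u := by
      intro u hu
      by_cases hud : u = d
      · rw [hud]; exact (hHfix _ (y : H).2).2
      by_contra hne
      have hYmem : ∀ v ∈ k' • Δ, Y • v ∈ k' • Δ := fun v hv => hYZ ▸ Finset.smul_mem_smul_finset hv
      have hYd : ∀ v, v ≠ d → Y • v ≠ d := fun v hv e' =>
        hv (MulAction.injective Y (e'.trans (hHfix _ (y : H).2).2.symm))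
      have hc2 : ((k' • Δ).erase d).card = 2 := by
        rw [Finset.card_erase_of_mem hdZ, Finset.card_smul_finset, hΔcard]
      have h1 : Y • u ∈ (k' • Δ).erase d :=
        Finset.mem_erase.2 ⟨hYd u hud, hYmem u hu⟩
      have h2' : Y • Y • u ∈ (k' • Δ).erase d :=
        Finset.mem_erase.2 ⟨hYd _ (hYd u hud), hYmem _ (hYmem u hu)⟩
      have h3 : u ∈ (k' • Δ).erase d := Finset.mem_erase.2 ⟨hud, hu⟩
      have hne2 : Y • Y • u ≠ Y • u := fun e' => hne (MulAction.injective Y e')
      have hne3 : Y • Y • u ≠ u := fun e' => hne (by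
        have h' := hY3 u
        rwa [e'] at h')
      have := Finset.card_le_card (show ({u, Y • u, Y • Y • u} : Finset α) ⊆ (k' • Δ).erase d by
        intro v hv
        simp only [Finset.mem_insert, Finset.mem_singleton] at hv
        rcases hv with rfl | rfl | rfl <;> assumption)
      rw [hc2, Finset.card_insert_of_notMem (by simp [Ne.symm hne, hne3.symm]),
        Finset.card_pair hne2.symm] at this
      omega
    intro u hu
    simp only [D, Finset.smul_finset_insert, Finset.mem_insert] at hu
    rcases hu with rfl | hu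
    · rw [hk'd]; exact hkd
    · refine (hfixY u (hZfix u hu)).resolve_left fun e' => ?_
      obtain ⟨v, hv, hvu⟩ := Finset.mem_smul_finset.1 hu
      rw [e'] at hvu
      exact hΔc (MulAction.injective k' (hvu.trans (mem_stabilizer_iff.1 hk'L).symm) ▸ hv)
  -- counting gives a subgroup of order 288 in a group of order 720
  let M : Subgroup L := stabilizer L D
  have hMd : orbit M d = ↑D := by
    refine Set.Subset.antisymm ?_ ?_
    · rintro _ ⟨m, rfl⟩
      have hm : ((m : L) : G) • D = D := m.2
      rw [Finset.mem_coe, ← hm]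
      exact Finset.smul_mem_smul_finset (Finset.mem_insert_self d Δ)
    · intro u hu
      rw [Finset.mem_coe, Finset.mem_insert] at hu
      rcases hu with rfl | hu
      · exact mem_orbit_self _
      obtain ⟨q, hq⟩ := (hΔ _).1 hu
      have hgD : g₀ • D = D := hblock g₀ hg₀ (by
        rw [hg₀d]; exact Finset.mem_insert_of_mem ((hΔ e).2 (mem_orbit_self e)))
      have hmem : (⟨(q : G) * g₀, L.mul_mem (hHfix q q.2).1 hg₀⟩ : L) ∈ M := by
        rw [mem_stabilizer_iff]
        change ((q : G) * g₀) • D = D
        rw [mul_smul, hgD, hHD q q.2]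
      exact ⟨⟨_, hmem⟩, show ((q : G) * g₀) • d = u by rw [mul_smul, hg₀d]; exact hq⟩
  have hMst : Nat.card (stabilizer M d) = 72 := by
    rw [← hH]
    refine Nat.card_congr
      { toFun := fun m => ⟨((m : M) : L), Prod.ext ((m : M) : L).2 m.2⟩
        invFun := fun h => ⟨⟨⟨h, (hHfix h h.2).1⟩, hHD h h.2⟩, (hHfix h h.2).2⟩
        left_inv := fun m => rfl
        right_inv := fun h => rfl }
  have hM := card_orbit_mul_card_stabilizer (G := M) d
  rw [hMd, Nat.card_coe_set_eq, Set.ncard_coe_finset, hDcard, hMst] at hM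
  have hdvd := Subgroup.card_subgroup_dvd_card M
  rw [← hM, hL] at hdvd
  norm_num at hdvd

/-- Non-identity elements of a group of degree 11 and order 7920 fix at most three points. -/
theorem fixed_le_three (hα : Fintype.card α = 11) (h2 : IsMultiplyPretransitive G α 2)
    (hGA : G ≤ alternatingGroup α) (hA : ¬ alternatingGroup α ≤ G) (hcard : Nat.card G = 7920)
    {g : G} (hg : g ≠ 1) : 8 ≤ (g : Perm α).support.card := by
  by_contra hlt
  have hprim : IsPreprimitive G α := isPreprimitive_of_is_two_pretransitive h2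
  have h1 : orderOf g ≠ 1 := fun h => hg (orderOf_eq_one_iff.1 h)
  obtain ⟨q, hq, k, hk⟩ := Nat.exists_prime_and_dvd h1
  haveI : Fact q.Prime := ⟨hq⟩
  have hy : orderOf (g ^ k) = q := by
    have h0 : orderOf g = k * q := by rw [hk, mul_comm]
    have := orderOf_pow_of_dvd (x := g) (n := k) (by
      rintro rfl
      exact (orderOf_pos g).ne' (by rw [h0, zero_mul])) ⟨q, h0⟩
    rw [this, h0, Nat.mul_div_cancel_left _ (Nat.pos_of_ne_zero fun e => (orderOf_pos g).ne'
      (by rw [h0, e, zero_mul]))]
  have hsub : ((g ^ k : G) : Perm α).support.card ≤ (g : Perm α).support.card := by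
    rw [SubmonoidClass.coe_pow]
    exact Finset.card_le_card (Perm.support_pow_le _ k)
  have hdvd : q ∣ 7920 := by
    rw [← hcard, ← hy]; exact orderOf_dvd_natCard _
  have hy' : orderOf ((g ^ k : G) : Perm α) = q := by rw [Subgroup.orderOf_coe, hy]
  obtain ⟨m, hm, hms⟩ := exists_cycleType hq hy'
  have hq7 : q ≤ 7 := by
    have h' : q ≤ (m + 1) * q := Nat.le_mul_of_pos_left q (Nat.succ_pos m)
    omega
  have hq2 := hq.two_le
  interval_cases q
  · -- involutions
    have hsign := sign_of_prime_order_two hm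
    rw [mem_alternatingGroup.1 (hGA (g ^ k).2)] at hsign
    have hm1 : m = 1 := by
      rcases m with - | - | - | m
      · exact absurd hsign (by decide)
      · rfl
      · exact absurd hsign (by decide)
      · rw [hms] at hsub; omega
    subst hm1
    refine hA (alternatingGroup_le_of_double_transposition hα h2 (g ^ k).2 ?_ (by rw [hms]))
    rw [← pow_two]
    exact hy' ▸ pow_orderOf_eq_one _
  · -- elements of order three
    rcases m with - | - | m
    · exact hA (alternatingGroup_le_of_isPreprimitive_of_isThreeCycle_mem hprim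
        (card_support_eq_three_iff.1 hms) (g ^ k).2)
    · exact no_six_support hα h2 hA hcard hy hms
    · rw [hms] at hsub; omega
  · exact absurd hq (by decide)
  · exact hA (alternatingGroup_le_of_prime_element hprim (g ^ k).2 hq hy' (by omega) (by omega))
  · exact absurd hq (by decide)
  · exact absurd hdvd (by decide)

/-- A group of degree 11 and order 7920 not containing the alternating group is sharply
4-transitive. -/
theorem sharply_four_of_card (hα : Fintype.card α = 11) (h2 : IsMultiplyPretransitive G α 2)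
    (hGA : G ≤ alternatingGroup α) (hA : ¬ alternatingGroup α ≤ G) (hcard : Nat.card G = 7920) :
    IsMultiplyPretransitive G α 4 ∧ ∀ x : Fin 4 ↪ α, stabilizer G x = ⊥ := by
  classical
  have hbot : ∀ x : Fin 4 ↪ α, stabilizer G x = ⊥ := by
    intro x
    rw [Subgroup.eq_bot_iff_forall]
    intro g hg
    by_contra hne
    have h8 := fixed_le_three hα h2 hGA hA hcard hne
    have hsub : Finset.univ.map x ⊆ (g : Perm α).supportᶜ := by
      intro u hu
      obtain ⟨i, -, rfl⟩ := Finset.mem_map.1 hu
      rw [Finset.mem_compl, Perm.notMem_support]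
      exact DFunLike.congr_fun (mem_stabilizer_iff.1 hg) i
    have := Finset.card_le_card hsub
    rw [Finset.card_map, Finset.card_univ, Fintype.card_fin, Finset.card_compl, hα] at this
    omega
  refine ⟨⟨fun x y => ?_⟩, hbot⟩
  have hinj : Function.Injective fun g : G => g • x := by
    intro g g' e
    have : g'⁻¹ * g ∈ stabilizer G x := by
      rw [mem_stabilizer_iff, mul_smul, inv_smul_eq_iff]; exact e
    rw [hbot, Subgroup.mem_bot, inv_mul_eq_one] at this
    exact this.symm
  haveI : Fintype G := Fintype.ofFinite G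
  have hbij : Function.Bijective fun g : G => g • x := by
    refine (Fintype.bijective_iff_injective_and_card _).2 ⟨hinj, ?_⟩
    rw [← Nat.card_eq_fintype_card, hcard, Fintype.card_embedding_eq, Fintype.card_fin, hα]
    decide
  exact hbij.2 y

end Cfsg.Agent.PermLib.Eleven
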