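import Cfsg.Agent.Perm.PrimeDegree
import Cfsg.Agent.Perm.Design

/-!
Subgroups of index `p` in transitive groups of prime degree `p`.
-/

namespace Cfsg.Agent.PermLib

open MulAction
open scoped Pointwise

variable {G Ω : Type*} [Group G] [MulAction G Ω] [FaithfulSMul G Ω] [Finite G] [Fintype Ω]
  [IsPretransitive G Ω] {p : ℕ} [Fact p.Prime]

theorem not_dvd_card_stabilizer (hcard : Fintype.card Ω = p) (a : Ω) :
    ¬ p ∣ Nat.card (stabilizer G a) := by
  intro h
  let P : Sylow p G := default
  have h1 : p ^ 2 ∣ Nat.card G := by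
    rw [card_eq_mul_card_stabilizer (G := G) a, Nat.card_eq_fintype_card, hcard, pow_two]
    exact mul_dvd_mul_left p h
  have h2 := card_sylow_of_prime_degree hcard P
  obtain ⟨K, hK⟩ := Sylow.exists_subgroup_card_pow_prime p h1
  obtain ⟨Q, hQ⟩ := (IsPGroup.of_card hK).exists_le_sylow
  have h3 := Subgroup.card_le_of_le hQ
  rw [hK, card_sylow_of_prime_degree hcard Q] at h3
  have := (Fact.out : p.Prime).two_le
  nlinarith

theorem not_dvd_card_of_index_eq (hcard : Fintype.card Ω = p) {H : Subgroup G}
    (hH : H.index = p) : ¬ p ∣ Nat.card H := by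
  haveI : Nonempty Ω := by
    rw [← Fintype.card_pos_iff, hcard]; exact (Fact.out : p.Prime).pos
  obtain ⟨a⟩ := ‹Nonempty Ω›
  have h1 := card_eq_mul_card_stabilizer (G := G) a
  rw [Nat.card_eq_fintype_card (α := Ω), hcard, ← Subgroup.index_mul_card H, hH] at h1
  rw [Nat.eq_of_mul_eq_mul_left (Fact.out : p.Prime).pos h1]
  exact not_dvd_card_stabilizer hcard a

theorem exists_commutative_normal_of_solvable [Nontrivial G] (hG : Group.IsSolvable G) :
    ∃ N : Subgroup G, N.Normal ∧ N ≠ ⊥ ∧ IsMulCommutative N := by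
  classical
  obtain ⟨n, hn⟩ := hG.solvable
  have hex : ∃ n, derivedSeries G n = ⊥ := ⟨n, hn⟩
  have h0 : Nat.find hex ≠ 0 := fun h => by
    have := Nat.find_spec hex
    rw [h, derivedSeries_zero] at this
    exact top_ne_bot this
  obtain ⟨m, hm⟩ := Nat.exists_eq_succ_of_ne_zero h0
  refine ⟨derivedSeries G m, derivedSeries_normal G m, Nat.find_min hex (by omega), ?_⟩
  have hsucc : ⁅derivedSeries G m, derivedSeries G m⁆ = ⊥ := by
    rw [← derivedSeries_succ, ← Nat.succ_eq_add_one, ← hm]; exact Nat.find_spec hex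
  refine ⟨⟨fun x y => Subtype.ext ?_⟩⟩
  exact commutatorElement_eq_one_iff_mul_comm.1
    ((Subgroup.mem_bot).1 (hsucc ▸ Subgroup.commutator_mem_commutator x.2 y.2))

/-- A solvable transitive group of prime degree: all elements outside a point stabilizer have at
most one fixed point and the stabilizers are abelian. -/
theorem eq_stabilizer_of_index_solvable (hcard : Fintype.card Ω = p) (hG : Group.IsSolvable G)
    {H : Subgroup G} (hH : H.index = p) : ∃ a : Ω, H = stabilizer G a := by
  classical
  have hp : p.Prime := Fact.out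
  haveI : Nontrivial Ω := Fintype.one_lt_card_iff_nontrivial.1 (by rw [hcard]; exact hp.one_lt)
  haveI : Nontrivial G := by
    rw [← Finite.one_lt_card_iff_nontrivial]
    obtain ⟨a⟩ : Nonempty Ω := inferInstance
    have h1 := card_eq_mul_card_stabilizer (G := G) a
    rw [Nat.card_eq_fintype_card (α := Ω), hcard] at h1
    rw [h1]
    exact lt_of_lt_of_le hp.one_lt (Nat.le_mul_of_pos_right p Nat.card_pos)
  haveI : IsPreprimitive G Ω := IsPreprimitive.of_prime_card (by
    rwa [Nat.card_eq_fintype_card, hcard])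
  obtain ⟨N, hNn, hN, hNc⟩ := exists_commutative_normal_of_solvable hG
  haveI := isPretransitive_of_normal_ne_bot (α := Ω) hN
  have hreg : ∀ a : Ω, stabilizer N a = ⊥ := stabilizer_eq_bot_of_isMulCommutative hNc
  obtain ⟨o⟩ : Nonempty Ω := inferInstance
  have hNcard : Nat.card N = p := by
    rw [card_eq_of_regular (hreg o), Nat.card_eq_fintype_card, hcard]
  haveI : IsCyclic N := isCyclic_of_prime_card hNcard
  -- the conjugation action is faithful on each stabilizer
  have hconj : ∀ (a : Ω) (g : G), g • a = a → MulAut.conjNormal g = (1 : MulAut N) → g = 1 := by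
    intro a g ha h
    refine FaithfulSMul.eq_of_smul_eq_smul (α := Ω) fun b => ?_
    obtain ⟨n, rfl⟩ := exists_smul_eq N a b
    have e : (g * (n : G) * g⁻¹) = n := by
      rw [← MulAut.conjNormal_apply, h, MulAut.one_apply]
    have e' := conj_smul_of_mem_stabilizer (α := Ω) (mem_stabilizer_iff.2 ha) (n : G)
    rw [e] at e'
    rw [one_smul]
    exact e'.symm
  -- two fixed points force the identity
  have huniq : ∀ (a b : Ω) (g : G), g • a = a → g • b = b → a ≠ b → g = 1 := by
    intro a b g ha hb hab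
    refine hconj a g ha (MulEquiv.ext fun x => ?_)
    obtain ⟨n, hn⟩ := exists_smul_eq N a b
    have hn1 : n ≠ 1 := fun e => hab (by rw [← hn, e, one_smul])
    have hfix : (MulAut.conjNormal g n : N) = n := (smul_bijective_of_regular (hreg a)).1 (by
      change ((MulAut.conjNormal g n : N) : G) • a = (n : G) • a
      rw [MulAut.conjNormal_apply, conj_smul_of_mem_stabilizer (mem_stabilizer_iff.2 ha),
        show (n : G) • a = b from hn, hb])
    have hx : x ∈ Subgroup.zpowers n := mem_zpowers_of_prime_card hNcard hn1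
    obtain ⟨z, rfl⟩ := Subgroup.mem_zpowers_iff.1 hx
    rw [map_zpow, hfix, MulAut.one_apply]
  -- `H` embeds into the automorphism group of `N`, hence is abelian
  have hHcomm : ∀ x y : H, x * y = y * x := by
    have hpH := not_dvd_card_of_index_eq hcard hH
    intro x y
    have hab : ∀ f g : MulAut N, f * g = g * f := by
      intro f g
      obtain ⟨n, hn⟩ := IsCyclic.exists_generator (α := N)
      obtain ⟨i, hi⟩ := Subgroup.mem_zpowers_iff.1 (hn (f n))
      obtain ⟨j, hj⟩ := Subgroup.mem_zpowers_iff.1 (hn (g n))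
      refine MulEquiv.ext fun m => ?_
      obtain ⟨z, rfl⟩ := Subgroup.mem_zpowers_iff.1 (hn m)
      rw [MulAut.mul_apply, MulAut.mul_apply, map_zpow, map_zpow, map_zpow, map_zpow, ← hi, ← hj,
        map_zpow, map_zpow, ← hi, ← hj, ← zpow_mul n i j, ← zpow_mul n j i, mul_comm i j]
    have hc : (x : G) * y * (x : G)⁻¹ * (y : G)⁻¹ ∈ H ⊓ N := by
      refine ⟨?_, ?_⟩
      · exact H.mul_mem (H.mul_mem (H.mul_mem x.2 y.2) (H.inv_mem x.2)) (H.inv_mem y.2)
      · -- an element acting trivially on `N` lies in `N`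
        have h1 : MulAut.conjNormal ((x : G) * y * (x : G)⁻¹ * (y : G)⁻¹) = (1 : MulAut N) := by
          rw [map_mul, map_mul, map_mul, map_inv, map_inv,
            hab (MulAut.conjNormal (x : G)) (MulAut.conjNormal (y : G))]
          group
        obtain ⟨n, hn, s, hs, he⟩ := exists_mem_mul_mem_stabilizer N o
          ((x : G) * y * (x : G)⁻¹ * (y : G)⁻¹)
        have hnc : MulAut.conjNormal n = (1 : MulAut N) := MulEquiv.ext fun m => Subtype.ext (by
          rw [MulAut.conjNormal_apply, MulAut.one_apply]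
          have := congrArg Subtype.val (hNc.is_comm.comm ⟨n, hn⟩ m)
          simp only [Subgroup.coe_mul] at this
          rw [this, mul_inv_cancel_right])
        rw [he, map_mul, hnc, one_mul] at h1
        rw [he, hconj o s hs h1, mul_one]
        exact hn
    have hbot : H ⊓ N = ⊥ := by
      refine Subgroup.eq_bot_of_card_eq _ ?_
      have d1 : Nat.card ↥(H ⊓ N) ∣ p := hNcard ▸ Subgroup.card_dvd_of_le inf_le_right
      refine (hp.eq_one_or_self_of_dvd _ d1).resolve_right fun h => hpH ?_
      exact h ▸ Subgroup.card_dvd_of_le inf_le_left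
    rw [hbot, Subgroup.mem_bot, mul_inv_eq_one, mul_inv_eq_iff_eq_mul] at hc
    exact Subtype.ext hc
  have key : ∃ a : Ω, H ≤ stabilizer G a := by
    by_cases hb : H = ⊥
    · exact ⟨o, hb ▸ bot_le⟩
    have h1 : Nat.card H ≠ 1 := fun h => hb (Subgroup.eq_bot_of_card_eq H h)
    obtain ⟨q, hq, hqd⟩ := Nat.exists_prime_and_dvd h1
    haveI : Fact q.Prime := ⟨hq⟩
    obtain ⟨h, hh⟩ := exists_prime_orderOf_dvd_card' (G := H) q hqd
    have hh1 : (h : G) ≠ 1 := fun e => hq.ne_one (by
      rw [← hh, show h = 1 from Subtype.ext e, orderOf_one])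
    have hQ : IsPGroup q (Subgroup.zpowers (h : G)) :=
      IsPGroup.of_card (n := 1) (by rw [Nat.card_zpowers, Subgroup.orderOf_coe, hh, pow_one])
    have hqp : ¬ q ∣ Nat.card Ω := by
      rw [Nat.card_eq_fintype_card, hcard]
      intro hdvd
      exact not_dvd_card_of_index_eq hcard hH
        ((Nat.prime_dvd_prime_iff_eq hq hp).1 hdvd ▸ hqd)
    obtain ⟨a, ha⟩ := hQ.nonempty_fixed_point_of_prime_not_dvd_card Ω hqp
    have hha : (h : G) • a = a := ha ⟨_, Subgroup.mem_zpowers _⟩
    refine ⟨a, fun k hk => ?_⟩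
    rw [mem_stabilizer_iff]
    by_contra hne
    refine hh1 (huniq (k • a) a h ?_ hha hne)
    have e : (h : G) * k = k * h := congrArg Subtype.val (hHcomm h ⟨k, hk⟩)
    rw [smul_smul, e, mul_smul, hha]
  obtain ⟨a, ha⟩ := key
  refine ⟨a, Subgroup.eq_of_le_of_card_ge ha (le_of_eq ?_)⟩
  have h1 := card_eq_mul_card_stabilizer (G := G) a
  rw [Nat.card_eq_fintype_card (α := Ω), hcard, ← Subgroup.index_mul_card H, hH] at h1
  exact (Nat.eq_of_mul_eq_mul_left hp.pos h1).symm

theorem eq_stabilizer_of_index_three_pretransitive (hcard : Fintype.card Ω = p)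
    (hG : ¬ Group.IsSolvable G) (h3 : IsMultiplyPretransitive G Ω 3) {H : Subgroup G}
    (hH : H.index = p) : ∃ a : Ω, H = stabilizer G a := by
  classical
  have hp : p.Prime := Fact.out
  have h5 := five_le_of_not_solvable hcard hG
  haveI : Nontrivial Ω := Fintype.one_lt_card_iff_nontrivial.1 (by omega)
  haveI : IsPreprimitive G Ω := IsPreprimitive.of_prime_card (by
    rwa [Nat.card_eq_fintype_card, hcard])
  have hpH := not_dvd_card_of_index_eq hcard hH
  have hcardβ : Nat.card (G ⧸ H) = p := by rw [← Subgroup.index_eq_card, hH]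
  haveI : Finite (G ⧸ H) := Nat.finite_of_card_ne_zero (by rw [hcardβ]; exact hp.ne_zero)
  -- the action on the cosets is faithful
  haveI : FaithfulSMul G (G ⧸ H) := by
    by_cases hcore : H.normalCore = ⊥
    · refine ⟨fun {x y} h => ?_⟩
      have : y⁻¹ * x ∈ (MulAction.toPermHom G (G ⧸ H)).ker := by
        rw [MonoidHom.mem_ker]
        refine Equiv.ext fun q => ?_
        rw [MulAction.toPermHom_apply, MulAction.toPerm_apply, Equiv.Perm.one_apply, mul_smul, h,
          inv_smul_smul]
      rw [← Subgroup.normalCore_eq_ker, hcore, Subgroup.mem_bot, inv_mul_eq_one] at this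
      exact this.symm
    · exfalso
      haveI := isPretransitive_of_normal_ne_bot (α := Ω) hcore
      refine hpH (dvd_trans ?_ (Subgroup.card_dvd_of_le (Subgroup.normalCore_le H)))
      rw [← hcard, ← Nat.card_eq_fintype_card]
      exact card_dvd_card
  haveI : Fintype (G ⧸ H) := Fintype.ofFinite _
  have hcardβ' : Fintype.card (G ⧸ H) = p := by rw [← Nat.card_eq_fintype_card, hcardβ]
  have h2 := two_pretransitive_of_not_solvable hcard hG
  have h2' := two_pretransitive_of_not_solvable hcardβ' hG
  haveI : Nontrivial (G ⧸ H) := Fintype.one_lt_card_iff_nontrivial.1 (by omega)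
  have hle := card_orbits_prod_sq_le (G := G) (α := G ⧸ H) (β := Ω)
  rw [card_orbits_eq_two h2, card_orbits_eq_two h2', card_orbits_prod ((1 : G) : G ⧸ H),
    stabilizer_quotient] at hle
  have hr : Nat.card (orbitRel.Quotient H Ω) ≤ 2 := by nlinarith
  -- one orbit is impossible, so there are exactly two
  obtain ⟨b⟩ : Nonempty Ω := inferInstance
  let B : Finset Ω := Finset.univ.filter fun x => x ∈ orbit H b
  have hBne : B.card < Fintype.card Ω := by
    refine Finset.card_lt_univ_of_notMem (x := ?_) ?_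
    · exact Classical.epsilon fun x => x ∉ orbit H b
    · suffices h : ∃ x, x ∉ orbit H b by
        simpa [B] using Classical.epsilon_spec h
      by_contra hall
      push Not at hall
      haveI : IsPretransitive H Ω :=
        (isPretransitive_iff_orbit_eq_univ (a := b)).2 (Set.eq_univ_of_forall hall)
      refine hpH ?_
      rw [← hcard, ← Nat.card_eq_fintype_card]
      exact card_dvd_card
  have hB1 : 0 < B.card := Finset.card_pos.2 ⟨b, by simp [B, mem_orbit_self]⟩
  have hstabH : H ≤ stabilizer G B := by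
    intro h hh
    refine mem_stabilizer_iff.2 (Finset.eq_of_subset_of_card_le ?_ (Finset.card_smul_finset h B).ge)
    intro x hx
    obtain ⟨y, hy, rfl⟩ := Finset.mem_smul_finset.1 hx
    simp only [B, Finset.mem_filter, Finset.mem_univ, true_and] at hy ⊢
    rw [← orbit_eq_iff.2 hy]
    exact mem_orbit y (⟨h, hh⟩ : H)
  let 𝔅 : Finset (Finset Ω) := Finset.univ.filter fun C => C ∈ orbit G B
  have h𝔅card : 𝔅.card ≤ Fintype.card Ω := by
    have e : 𝔅.card = Nat.card (orbit G B) := by
      rw [Nat.card_coe_set_eq, ← Set.ncard_coe_finset]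
      congr 1
      ext C
      simp [𝔅]
    have e' : Nat.card (orbit G B) = (stabilizer G B).index := by
      rw [index_stabilizer, Nat.card_coe_set_eq]
    rw [e, e', hcard, ← hH]
    exact Nat.le_of_dvd (by rw [hH]; exact hp.pos) (Subgroup.index_dvd_of_le hstabH)
  have hfix : ∀ x : Ω, (∀ h : H, h • x = x) → ∃ a : Ω, H = stabilizer G a := by
    intro x hx
    refine ⟨x, Subgroup.eq_of_le_of_card_ge (fun h hh => hx ⟨h, hh⟩) (le_of_eq ?_)⟩
    have h1 := card_eq_mul_card_stabilizer (G := G) x
    rw [Nat.card_eq_fintype_card (α := Ω), hcard, ← Subgroup.index_mul_card H, hH] at h1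
    exact (Nat.eq_of_mul_eq_mul_left hp.pos h1).symm
  rcases card_lt_two_or_of_three_pretransitive h3 B 𝔅 (fun C => by simp [𝔅]) h𝔅card with h | h
  · -- a fixed point
    refine hfix b fun k => ?_
    have hkb : k • b ∈ B := by simp [B, mem_orbit]
    have hbB : b ∈ B := by simp [B, mem_orbit_self]
    exact Finset.card_le_one.1 (by omega) _ hkb _ hbB
  · -- a single point outside the orbit
    obtain ⟨x, hx⟩ := Finset.card_eq_one.1 (show Bᶜ.card = 1 by rw [Finset.card_compl]; omega)
    refine hfix x fun k => ?_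
    have hk : k • x ∈ Bᶜ := by
      have hxB : x ∈ Bᶜ := by rw [hx]; exact Finset.mem_singleton_self x
      rw [Finset.mem_compl] at hxB ⊢
      simp only [B, Finset.mem_filter, Finset.mem_univ, true_and] at hxB ⊢
      intro hkx
      exact hxB (by
        rw [← orbit_eq_iff.2 hkx]
        exact ⟨k⁻¹, inv_smul_smul k x⟩)
    rwa [hx, Finset.mem_singleton] at hk

end Cfsg.Agent.PermLib
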